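import Cfsg.Agent.Lib.GW.Reduction
import Cfsg.Agent.Lib.GW.InvolPSL
import Cfsg.Agent.Lib.Char.SmallSpectra
import Cfsg.Agent.S0254

/-!
# Degree `3p`: the numerical conditions in the linear groups of rank one and in `A₇`
-/

set_option autoImplicit false
set_option linter.unusedSectionVars false

namespace CfsgLib.Perm.ThreeP

universe u

variable {G : Type u} [Group G] [Finite G]

/-- Orders in the two families. -/
theorem order_data (hL : CfsgLib.GW.IsPSLTwoOrA7 G) {t : G} (ht : orderOf t = 2) :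
    Nat.card G = 2520 ∨
      ∃ (F : Type) (_ : Field F) (_ : Fintype F) (q : ℕ) (δ : ℤ), Fintype.card F = q ∧ (δ = 1 ∨ δ = -1) ∧
        2 * (Nat.card G : ℤ) = (q : ℤ) * ((q : ℤ) + 1) * ((q : ℤ) - 1) ∧
        (Nat.card (Subgroup.centralizer ({t} : Set G)) : ℤ) = (q : ℤ) - δ ∧
        Nonempty (G ≃* Matrix.ProjectiveSpecialLinearGroup (Fin 2) F) := by
  classical
  rcases hL with ⟨F, i, j, hodd, h3, ⟨g⟩⟩ | ⟨⟨g⟩⟩
  · refine Or.inr ⟨F, i, j, Fintype.card F, ?_⟩
    have hc : Nat.card (Subgroup.centralizer ({t} : Set G)) = CfsgLib.GW.invCard (Fintype.card F) := by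
      rw [← CfsgLib.GW.card_cent_psl hodd (g t) (by rw [MulEquiv.orderOf_eq, ht])]
      refine Nat.card_congr (g.toEquiv.subtypeEquiv fun x => ?_)
      simp only [Subgroup.mem_centralizer_singleton_iff, MulEquiv.toEquiv_eq_coe, MulEquiv.coe_toEquiv,
        ← map_mul, g.injective.eq_iff]
    have hG := CfsgLib.Char.TwoChars.card_psl_odd (F := F) hodd
    rw [← Nat.card_congr g.toEquiv] at hG
    have h1 : 1 ≤ Fintype.card F := by omega
    have hG' : 2 * (Nat.card G : ℤ) = (Fintype.card F : ℤ) * ((Fintype.card F : ℤ) + 1) * ((Fintype.card F : ℤ) - 1) := by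
      have := congrArg (fun n : ℕ => (n : ℤ)) hG
      push_cast [Nat.cast_sub h1] at this
      linear_combination this
    by_cases h4 : Fintype.card F % 4 = 1
    · exact ⟨1, rfl, Or.inl rfl, hG', by rw [hc, CfsgLib.GW.invCard, if_pos h4, Nat.cast_sub h1, Nat.cast_one], ⟨g⟩⟩
    · exact ⟨-1, rfl, Or.inr rfl, hG', by rw [hc, CfsgLib.GW.invCard, if_neg h4]; push_cast; ring, ⟨g⟩⟩
  · left
    rw [Nat.card_congr g.toEquiv, nat_card_alternatingGroup, Nat.card_fin]
    rfl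

/-- Degree `3p - 1` is impossible. -/
theorem arith_top {p h : ℕ} (hp : p.Prime) (h5 : 5 ≤ p) (h4 : p % 4 = 1)
    (hL : CfsgLib.GW.IsPSLTwoOrA7 G) {t : G} (ht : orderOf t = 2)
    (hG : Nat.card G = 3 * p * (3 * p - 1) * h)
    (hform : (Nat.card G : ℤ) * (3 * ((p : ℤ) - 1)) ^ 2 =
      (p : ℤ) * (Nat.card (Subgroup.centralizer ({t} : Set G)) : ℤ) ^ 2 * ((3 * (p : ℤ) - 1) * (3 * (p : ℤ) - 2))) :
    False := by
  set c := Nat.card (Subgroup.centralizer ({t} : Set G)) with hcdef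
  have hh : 0 < h := Nat.pos_of_ne_zero fun e => by
    rw [e, mul_zero] at hG
    exact Nat.card_pos.ne' hG
  have hGz : (Nat.card G : ℤ) = 3 * (p : ℤ) * (3 * (p : ℤ) - 1) * h := by
    rw [hG]; push_cast [Nat.cast_sub (by omega : 1 ≤ 3 * p)]; ring
  have hp5 : (5 : ℤ) ≤ p := by exact_mod_cast h5
  have hmain : 27 * ((p : ℤ) - 1) ^ 2 * h = (c : ℤ) ^ 2 * (3 * p - 2) := by
    refine mul_left_cancel₀ (mul_ne_zero (by omega : (p : ℤ) ≠ 0) (by omega : 3 * (p : ℤ) - 1 ≠ 0)) ?_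
    rw [hGz] at hform
    linear_combination hform
  have hhlow : 3 * (p : ℤ) - 2 ≤ h := by
    have hcop : IsCoprime (3 * (p : ℤ) - 2) (27 * ((p : ℤ) - 1) ^ 2) := by
      refine IsCoprime.mul_right ?_ (IsCoprime.pow_right ⟨1, -3, by ring⟩)
      rw [show (27 : ℤ) = 3 ^ 3 by norm_num]
      exact IsCoprime.pow_right ⟨1, 1 - (p : ℤ), by ring⟩
    exact Int.le_of_dvd (by exact_mod_cast hh) (hcop.dvd_of_dvd_mul_left ⟨(c : ℤ) ^ 2, by linear_combination hmain⟩)
  have hclow : 27 * ((p : ℤ) - 1) ^ 2 ≤ (c : ℤ) ^ 2 := by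
    by_contra hlt
    push Not at hlt
    have h1 : (c : ℤ) ^ 2 * (3 * p - 2) < 27 * ((p : ℤ) - 1) ^ 2 * (3 * p - 2) :=
      mul_lt_mul_of_pos_right hlt (by omega)
    have h2 : 27 * ((p : ℤ) - 1) ^ 2 * (3 * p - 2) ≤ 27 * ((p : ℤ) - 1) ^ 2 * h :=
      mul_le_mul_of_nonneg_left hhlow (by positivity)
    omega
  have hc4 : 4 * (p : ℤ) ≤ c := by
    by_contra hlt
    push Not at hlt
    have hc0 : (0 : ℤ) ≤ c := Int.natCast_nonneg c
    nlinarith
  rcases order_data hL ht with h7 | ⟨F, i, j, q, δ, -, hδ, hq, hc, -⟩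
  · have hdvd : p ∣ 2520 := h7 ▸ ⟨3 * (3 * p - 1) * h, by rw [hG]; ring⟩
    have hp7 : p = 5 := by
      have : p ≤ 7 := by
        rw [show 2520 = 2 ^ 3 * (3 ^ 2 * (5 * 7)) by norm_num] at hdvd
        rcases hp.dvd_mul.1 hdvd with h' | h'
        · exact (Nat.le_of_dvd two_pos (hp.dvd_of_dvd_pow h')).trans (by norm_num)
        rcases hp.dvd_mul.1 h' with h' | h'
        · exact (Nat.le_of_dvd (by norm_num) (hp.dvd_of_dvd_pow h')).trans (by norm_num)
        rcases hp.dvd_mul.1 h' with h' | h'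
        · exact (Nat.le_of_dvd (by norm_num) h').trans (by norm_num)
        · exact Nat.le_of_dvd (by norm_num) h'
      interval_cases p <;> first | rfl | (exfalso; omega)
    subst hp7
    rw [h7] at hG
    have : h = 12 := by omega
    subst this
    push_cast at hmain hc4
    omega
  · rw [← hcdef] at hc
    have hc0 : (c : ℤ) ≠ 0 := by omega
    have hk : (q : ℤ) * ((q : ℤ) + δ) * (9 * ((p : ℤ) - 1) ^ 2) =
        2 * (p : ℤ) * c * ((3 * p - 1) * (3 * p - 2)) := by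
      refine mul_left_cancel₀ hc0 ?_
      have : 2 * (Nat.card G : ℤ) = (q : ℤ) * ((q : ℤ) + δ) * c := by
        rw [hq, hc]
        rcases hδ with rfl | rfl <;> ring
      linear_combination 2 * hform - (9 * ((p : ℤ) - 1) ^ 2) * this
    have hlow : ((c : ℤ) - 1) * ((c : ℤ) - 2) ≤ (q : ℤ) * ((q : ℤ) + δ) := by
      refine mul_le_mul (by rcases hδ with rfl | rfl <;> omega) (by rcases hδ with rfl | rfl <;> omega) (by omega)
        (Int.natCast_nonneg q)
    have h1 : ((c : ℤ) - 3) * c * (9 * ((p : ℤ) - 1) ^ 2) ≤ 18 * (p : ℤ) ^ 3 * c := by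
      have e1 : ((c : ℤ) - 3) * c * (9 * ((p : ℤ) - 1) ^ 2) ≤
          ((c : ℤ) - 1) * ((c : ℤ) - 2) * (9 * ((p : ℤ) - 1) ^ 2) :=
        mul_le_mul_of_nonneg_right (by nlinarith) (by positivity)
      have e2 : ((c : ℤ) - 1) * ((c : ℤ) - 2) * (9 * ((p : ℤ) - 1) ^ 2) ≤
          (q : ℤ) * ((q : ℤ) + δ) * (9 * ((p : ℤ) - 1) ^ 2) := mul_le_mul_of_nonneg_right hlow (by positivity)
      have e3 : 2 * (p : ℤ) * c * ((3 * p - 1) * (3 * p - 2)) ≤ 2 * (p : ℤ) * c * (9 * (p : ℤ) ^ 2) :=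
        mul_le_mul_of_nonneg_left (by nlinarith) (by positivity)
      rw [hk] at e2
      linarith
    have h2 : ((c : ℤ) - 3) * (9 * ((p : ℤ) - 1) ^ 2) ≤ 18 * (p : ℤ) ^ 3 := by
      refine le_of_mul_le_mul_right ?_ (show (0 : ℤ) < c by omega)
      linarith
    have h3 : (4 * (p : ℤ) - 3) * (9 * ((p : ℤ) - 1) ^ 2) ≤ ((c : ℤ) - 3) * (9 * ((p : ℤ) - 1) ^ 2) :=
      mul_le_mul_of_nonneg_right (by omega) (by positivity)
    nlinarith

/-- Degree `2p - 1` leaves only `A₆`. -/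
theorem arith_mid {p : ℕ} {r : ℤ} (hp : p.Prime) (h5 : 5 ≤ p) (h4 : p % 4 = 1)
    (hr : 6 * r ^ 2 + 3 * r + 1 = 2 * (p : ℤ))
    (hL : CfsgLib.GW.IsPSLTwoOrA7 G) {t : G} (ht : orderOf t = 2) (hdvd : p ∣ Nat.card G)
    (hform : (Nat.card G : ℤ) * (2 * ((p : ℤ) - 1)) =
      (p : ℤ) * (Nat.card (Subgroup.centralizer ({t} : Set G)) : ℤ) ^ 2 * (2 * (p : ℤ) - 1)) :
    p = 5 ∧ Nonempty (G ≃* ↥(alternatingGroup (Fin 6))) := by
  set c := Nat.card (Subgroup.centralizer ({t} : Set G)) with hcdef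
  have hcpos : (0 : ℤ) < c := by exact_mod_cast (Nat.card_pos : 0 < c)
  have hp5 : (5 : ℤ) ≤ p := by exact_mod_cast h5
  rcases order_data hL ht with h7 | ⟨F, i, j, q, δ, hF, hδ, hq, hc, hiso⟩
  · exfalso
    rw [h7] at hdvd hform
    have hp7 : p = 5 := by
      have : p ≤ 7 := by
        rw [show 2520 = 2 ^ 3 * (3 ^ 2 * (5 * 7)) by norm_num] at hdvd
        rcases hp.dvd_mul.1 hdvd with h' | h'
        · exact (Nat.le_of_dvd two_pos (hp.dvd_of_dvd_pow h')).trans (by norm_num)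
        rcases hp.dvd_mul.1 h' with h' | h'
        · exact (Nat.le_of_dvd (by norm_num) (hp.dvd_of_dvd_pow h')).trans (by norm_num)
        rcases hp.dvd_mul.1 h' with h' | h'
        · exact (Nat.le_of_dvd (by norm_num) h').trans (by norm_num)
        · exact Nat.le_of_dvd (by norm_num) h'
      interval_cases p <;> first | rfl | (exfalso; omega)
    subst hp7
    push_cast at hform
    have : c < 22 := by
      by_contra hge
      push Not at hge
      have : (22 : ℤ) ≤ c := by exact_mod_cast hge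
      nlinarith
    interval_cases c <;> omega
  · rw [← hcdef] at hc
    have hG2 : 2 * (Nat.card G : ℤ) = (q : ℤ) * ((q : ℤ) + δ) * c := by
      rw [hq, hc]
      rcases hδ with rfl | rfl <;> ring
    have hk : (q : ℤ) * ((q : ℤ) + δ) * ((p : ℤ) - 1) = (p : ℤ) * c * (2 * p - 1) := by
      refine mul_left_cancel₀ hcpos.ne' ?_
      linear_combination hform - ((p : ℤ) - 1) * hG2
    have hcop : IsCoprime ((p : ℤ) - 1) ((p : ℤ) * (2 * p - 1)) :=
      IsCoprime.mul_right ⟨-1, 1, by ring⟩ ⟨-2, 1, by ring⟩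
    obtain ⟨m, hm⟩ : (p : ℤ) - 1 ∣ c :=
      hcop.dvd_of_dvd_mul_left ⟨(q : ℤ) * ((q : ℤ) + δ), by linear_combination -hk⟩
    have hm0 : 0 < m := by
      by_contra hle
      push Not at hle
      have : ((p : ℤ) - 1) * m ≤ 0 := mul_nonpos_of_nonneg_of_nonpos (by omega) hle
      omega
    have hqe : (q : ℤ) = ((p : ℤ) - 1) * m + δ := by omega
    have hquad : (((p : ℤ) - 1) * m + δ) * (((p : ℤ) - 1) * m + 2 * δ) = (p : ℤ) * (2 * p - 1) * m := by
      refine mul_left_cancel₀ (show (p : ℤ) - 1 ≠ 0 by omega) ?_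
      rw [hqe] at hk
      rw [hm] at hk
      linear_combination hk
    have hm2 : m = 1 ∨ m = 2 := by
      have hd : m ∣ 2 := ⟨(p : ℤ) * (2 * p - 1) - ((p : ℤ) - 1) ^ 2 * m - 3 * δ * ((p : ℤ) - 1), by
        rcases hδ with rfl | rfl <;> linear_combination hquad⟩
      have := Int.le_of_dvd two_pos hd
      omega
    have hres : m = 2 ∧ δ = 1 := by
      rcases hm2 with rfl | rfl <;> rcases hδ with rfl | rfl
      · exfalso; nlinarith
      · exfalso; nlinarith
      · exact ⟨rfl, rfl⟩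
      · exfalso; nlinarith
    obtain ⟨rfl, rfl⟩ := hres
    have hqr : (q : ℤ) = 3 * (r * (2 * r + 1)) := by linear_combination hqe - hr
    obtain ⟨ch, hch⟩ := CharP.exists F
    haveI := hch
    obtain ⟨n, hprime, hn⟩ := FiniteField.card F ch
    have h3ch : ch = 3 := by
      have h3q : 3 ∣ q := Int.natCast_dvd_natCast.1 ⟨r * (2 * r + 1), hqr⟩
      rw [← hF, hn] at h3q
      exact ((Nat.prime_dvd_prime_iff_eq Nat.prime_three hprime).1 (Nat.prime_three.dvd_of_dvd_pow h3q)).symm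
    subst h3ch
    have hq3 : q = 3 ^ (n : ℕ) := by rw [← hF, hn]
    have hunit : ∀ x : ℤ, x ∣ (q : ℤ) → ¬ (3 : ℤ) ∣ x → x = 1 ∨ x = -1 := by
      intro x hx h3x
      have hx' : x.natAbs ∣ 3 ^ (n : ℕ) := hq3 ▸ Int.natAbs_dvd_natAbs.2 hx |>.trans (by simp)
      have h3' : ¬ 3 ∣ x.natAbs := fun hd => h3x (Int.natCast_dvd.2 hd)
      have : x.natAbs = 1 :=
        Nat.eq_one_of_dvd_coprimes ((Nat.prime_three.coprime_iff_not_dvd).2 h3' |>.pow_left (n : ℕ)) hx' dvd_rfl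
      omega
    have hr1 : r = 1 := by
      by_cases h3r : (3 : ℤ) ∣ r
      · rcases hunit (2 * r + 1) ⟨3 * r, by linear_combination hqr⟩ (by omega) with e | e
        · have : r = 0 := by omega
          subst this
          omega
        · have : r = -1 := by omega
          subst this
          omega
      · rcases hunit r ⟨3 * (2 * r + 1), by linear_combination hqr⟩ h3r with e | e
        · exact e
        · subst e
          omega
    subst hr1
    have hp' : p = 5 := by omega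
    subst hp'
    have hq9 : Fintype.card F = 9 := by rw [hF]; omega
    obtain ⟨g⟩ := hiso
    obtain ⟨a⟩ := Cfsg.Agent.S0254.result (F := F) hq9
    exact ⟨rfl, ⟨g.trans a⟩⟩

end CfsgLib.Perm.ThreeP
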