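import Cfsg.Agent.Lib.Perm.ThreeP.Formula

/-!
# A simple transitive group of degree `3p`: the permutation character
-/

set_option autoImplicit false
set_option linter.unusedSectionVars false

namespace CfsgLib.Perm.ThreeP

open Cfsg CfsgLib.Char MulAction
open scoped ComplexConjugate

universe u v

variable {G : Type u} [Group G] [Fintype G] {p : ℕ} [hp : Fact p.Prime] {P : Subgroup G} {t : G}
  {e : Multiplicative (ZMod p) ≃* P}

/-- The principal character. -/
noncomputable def oneIrr (G : Type u) [Group G] : IrrCharacter G := ⟨_, isIrrCharacter_one⟩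

/-- A character constant on `P#` has degree congruent to minus the weighted constant. -/
theorem degree_congr (h : SelfTwo p P t) {ξ : G → ℂ} (hξ : IsCharacter G ξ) {c0 : ℂ}
    (hc : ∀ u ∈ P, u ≠ (1 : G) → ξ u = c0) :
    ∃ k : ℕ, ξ 1 + ((p : ℂ) - 1) * c0 = (p : ℂ) * k := by
  classical
  haveI : Fintype P := Fintype.ofFinite _
  obtain ⟨k, hk⟩ := classInner_isCharacter (isCharacter_comp hξ P.subtype)
    (isCharacter_of_isIrr (isIrrCharacter_one (G := P)))
  refine ⟨k, ?_⟩
  rw [classInner, h.card] at hk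
  simp only [map_one, mul_one, Subgroup.coe_subtype] at hk
  rw [← Finset.add_sum_erase _ _ (Finset.mem_univ (1 : P)),
    Finset.sum_congr rfl (g := fun _ : P => c0) fun (v : P) hv => hc v v.2 fun e' =>
      (Finset.mem_erase.1 hv).1 (Subtype.ext e'),
    Finset.sum_const, Finset.card_erase_of_mem (Finset.mem_univ _), Finset.card_univ,
    ← Nat.card_eq_fintype_card, h.card, nsmul_eq_mul, Nat.cast_sub hp.out.one_le, Nat.cast_one,
    OneMemClass.coe_one] at hk
  rw [← hk, ← mul_assoc, mul_inv_cancel₀ (Nat.cast_ne_zero.2 hp.out.ne_zero), one_mul]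

theorem two_mul_half (h : SelfTwo p P t) : 2 * (TwoP.halfSet p).card + 1 = p := by
  have h3 := TwoP.card_halfSet (p := p) h.p_ne_two
  have h4 : ((2 * (TwoP.halfSet p).card + 1 : ℕ) : ℂ) = ((p : ℕ) : ℂ) := by
    push_cast; linear_combination h3
  exact_mod_cast h4

section ctx

variable [IsSimpleGroup G] {Ω : Type v} [Fintype Ω] [MulAction G Ω] [FaithfulSMul G Ω]
  [IsPretransitive G Ω]

namespace Ctx

variable (h : Ctx p P t Ω) (D : Exc p P e)
include h

theorem inner_perm_indF (a : ZMod p) : classInner (permChar G Ω) (indF e a) = 3 := by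
  classical
  haveI : Fintype P := Fintype.ofFinite _
  rw [indF, classInner_indFun_right P _ _ (isClassFunction_of_isCharacter (isCharacter_permChar Ω)),
    classInner, h.self.card, Finset.sum_eq_single (1 : P) ?_ (by simp)]
  · rw [linF_one, map_one, mul_one, OneMemClass.coe_one, h.perm_one, mul_comm 3 (p : ℂ), ← mul_assoc,
      inv_mul_cancel₀ (Nat.cast_ne_zero.2 hp.out.ne_zero), one_mul]
  · intro u _ hu
    rw [h.perm_zero u.2 fun e' => hu (Subtype.ext e'), zero_mul]

theorem inner_perm_one : classInner (permChar G Ω) (fun _ : G => (1 : ℂ)) = 1 := by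
  haveI : Subsingleton (MulAction.orbitRel.Quotient G Ω) :=
    (MulAction.pretransitive_iff_subsingleton_quotient G Ω).1 inferInstance
  haveI : Nonempty Ω := (Nat.card_pos_iff.1 (by rw [h.card]; have := hp.out.pos; omega)).1
  rw [classInner_permChar_one, Nat.card_of_subsingleton (Quotient.mk _ (Classical.arbitrary Ω)), Nat.cast_one]

theorem inner_perm_psi {m : ℕ} (hm : classInner (permChar G Ω) (D.chi : G → ℂ) = m)
    (a : TwoP.halfSet p) :
    classInner (permChar G Ω) (D.psi a : G → ℂ) = ((m : ℤ) + D.eps : ℤ) := by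
  have h1 : classInner (permChar G Ω) (tauF e a.1) = -1 := by
    simp only [tauF, classInner_sub_right, h.inner_perm_indF, h.inner_perm_one]
    ring
  rw [D.tau_eq a, classInner_smul_right, classInner_sub_right, hm, map_intCast] at h1
  push_cast
  linear_combination -(D.eps : ℂ) * h1 + ((m : ℂ) - classInner (permChar G Ω) (D.psi a : G → ℂ)) * D.eps_sq

/-- The possible degrees. -/
theorem cases :
    ∃ f : ℕ, (D.chi : G → ℂ) 1 = f ∧
      ((D.eps = -1 ∧ f = p - 1) ∨
      (D.eps = -1 ∧ f = 2 * p - 1 ∧ ∃ θ : IrrCharacter G, (θ : G → ℂ) ≠ (fun _ => 1) ∧ θ ≠ D.chi ∧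
        (θ : G → ℂ) 1 = p ∧ (∀ u ∈ P, u ≠ (1 : G) → (θ : G → ℂ) u = 0) ∧
        ∀ g, permChar G Ω g = 1 + (D.chi : G → ℂ) g + (θ : G → ℂ) g) ∨
      (D.eps = -1 ∧ f = 3 * p - 1 ∧ ∀ g, permChar G Ω g = 1 + (D.chi : G → ℂ) g) ∨
      (D.eps = 1 ∧ p = 5 ∧ f = 6 ∧
        ∀ g, orderOf g ≠ p → permChar G Ω g = 3 + 2 * (D.chi : G → ℂ) g)) := by
  classical
  have := Fintype.ofFinite (IrrCharacter G)
  have hπ := isCharacter_permChar (G := G) Ω
  choose M hM using fun ξ : IrrCharacter G => classInner_char_irr_nat hπ ξ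
  have hexp := classFun_expand (isClassFunction_of_isCharacter hπ)
  have hM1 : M (oneIrr G) = 1 := by
    have h1 := (hM (oneIrr G)).symm.trans h.inner_perm_one
    exact_mod_cast h1
  have hMψ : ∀ a, (M (D.psi a) : ℤ) = (M D.chi : ℤ) + D.eps := fun a => by
    have h1 := (hM (D.psi a)).symm.trans (h.inner_perm_psi D (hM D.chi) a)
    exact_mod_cast h1
  obtain ⟨f, hfpos, hf⟩ := isIrrCharacter_degree D.chi.2
  refine ⟨f, hf, ?_⟩
  set T : Finset (IrrCharacter G) := Finset.univ.image D.known with hTdef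
  have hk : ∀ ξ ∈ Finset.univ \ T, ∃ k : ℕ, 0 < k ∧ (ξ : G → ℂ) 1 = ((p * k : ℕ) : ℂ) ∧
      ∀ u ∈ P, u ≠ (1 : G) → (ξ : G → ℂ) u = 0 := by
    intro ξ hξ
    have hmem : ξ ∉ Set.range D.known := by
      simp only [Finset.mem_sdiff, Finset.mem_univ, true_and, hTdef, Finset.mem_image, not_exists] at hξ
      exact fun ⟨i, hi⟩ => hξ i hi
    have hz : ∀ u ∈ P, u ≠ (1 : G) → (ξ : G → ℂ) u = 0 := fun u hu h1 =>
      (D.column h.self ⟨u, hu⟩ fun e' => h1 (congrArg Subtype.val e')).2 ξ hmem
    obtain ⟨k, hk⟩ := degree_congr h.self (isCharacter_irr ξ) hz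
    rw [mul_zero, add_zero] at hk
    refine ⟨k, Nat.pos_of_ne_zero fun h0 => ?_, by push_cast; exact hk, hz⟩
    exact irr_one_ne_zero ξ (by rw [hk, h0, Nat.cast_zero, mul_zero])
  choose! K hKpos hK hKz using hk
  have hval : ∀ g, permChar G Ω g = 1 + (M D.chi : ℂ) * (D.chi : G → ℂ) g +
      ∑ a, (M (D.psi a) : ℂ) * (D.psi a : G → ℂ) g +
      ∑ ξ ∈ Finset.univ \ T, (M ξ : ℂ) * (ξ : G → ℂ) g := fun g => by
    conv_lhs => rw [hexp]
    rw [Finset.sum_apply, ← Finset.sum_sdiff (Finset.subset_univ T), hTdef,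
      Finset.sum_image fun x _ y _ h' => D.known_injective h', Fintype.sum_option, Fintype.sum_option]
    simp only [Exc.known, Pi.smul_apply, smul_eq_mul, hM,
      show classInner (permChar G Ω) (fun _ : G => (1 : ℂ)) = 1 from h.inner_perm_one, mul_one]
    ring
  obtain ⟨R, hR⟩ : ∃ R : ℕ, R = ∑ ξ ∈ Finset.univ \ T, M ξ * K ξ := ⟨_, rfl⟩
  have hh := two_mul_half h.self
  set hc := (TwoP.halfSet p).card with hhc
  have heq : 3 * (p : ℤ) = 1 + (M D.chi : ℤ) * f + (hc : ℤ) * (((M D.chi : ℤ) + D.eps) * ((f : ℤ) + D.eps))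
      + (p : ℤ) * R := by
    have h1 := hval 1
    rw [h.perm_one, Finset.sum_congr rfl (g := fun _ : TwoP.halfSet p =>
        (((M D.chi : ℤ) + D.eps : ℤ) : ℂ) * ((f : ℂ) + D.eps)) fun a _ => by
          rw [D.psi_one h.self a, hf, ← hMψ a, Int.cast_natCast],
      Finset.sum_congr rfl (g := fun ξ => ((p : ℂ) * ((M ξ * K ξ : ℕ) : ℂ))) fun ξ hξ => by
          rw [hK ξ hξ]; push_cast; ring,
      Finset.sum_const, Finset.card_univ, Fintype.card_coe, ← hhc, ← Finset.mul_sum, ← Nat.cast_sum, ← hR,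
      hf, nsmul_eq_mul] at h1
    apply Int.cast_injective (α := ℂ)
    push_cast at h1 ⊢
    linear_combination h1
  obtain ⟨k, hk⟩ := degree_congr h.self (isCharacter_irr D.chi) (fun u hu h1 => D.chi_on h.self hu h1)
  rw [hf] at hk
  have hfk : (f : ℤ) + ((p : ℤ) - 1) * D.eps = (p : ℤ) * k := by
    apply Int.cast_injective (α := ℂ)
    push_cast
    exact hk
  have h5 := h.self.five
  set m := M D.chi with hmdef
  rcases D.sign with s | s <;> rw [s] at heq hfk
  · -- the sign is one
    have hf1 : f ≠ 1 := fun e' => CIT.ThreeSizes.degree_ne_one h.nonab D.chi D.chi_ne_one (by rw [hf, e', Nat.cast_one])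
    have hfp : (p : ℤ) + 1 ≤ f := by
      by_contra hlt
      have hk2 : (k : ℤ) < 2 := by
        by_contra hk2
        have : (p : ℤ) * 2 ≤ p * k := mul_le_mul_of_nonneg_left (not_lt.1 hk2) (by positivity)
        omega
      have : k = 0 ∨ k = 1 := by omega
      rcases this with rfl | rfl
      · push_cast at hfk; omega
      · push_cast at hfk; omega
    have hub : (hc : ℤ) * ((p : ℤ) + 2) ≤ 3 * p - 1 := by
      have e1 : (hc : ℤ) * ((p : ℤ) + 2) ≤ (hc : ℤ) * (((m : ℤ) + 1) * ((f : ℤ) + 1)) := by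
        refine mul_le_mul_of_nonneg_left ?_ (Int.natCast_nonneg hc)
        nlinarith
      nlinarith
    have hp5 : p = 5 := by
      have : (p : ℤ) ≤ 5 := by nlinarith
      omega
    have hc2 : hc = 2 := by omega
    rw [hp5, hc2] at heq
    push_cast at heq
    have hf6 : f ≤ 6 := by
      have h6 : (f : ℤ) ≤ 6 := by nlinarith
      exact_mod_cast h6
    have hfe : f = 6 := by omega
    have hm0 : m = 0 := by
      rw [hfe] at heq
      push_cast at heq
      nlinarith
    have hR0 : R = 0 := by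
      rw [hfe, hm0] at heq
      push_cast at heq
      omega
    refine Or.inr (Or.inr (Or.inr ⟨s, hp5, hfe, fun g hg => ?_⟩))
    have hz : ∀ ξ ∈ Finset.univ \ T, M ξ = 0 := fun ξ hξ => by
      have := (Finset.sum_eq_zero_iff).1 (hR ▸ hR0) ξ hξ
      exact (Nat.mul_eq_zero.1 this).resolve_right (hKpos ξ hξ).ne'
    have hψ : ∀ a, M (D.psi a) = 1 := fun a => by
      have := hMψ a
      rw [s] at this
      omega
    rw [hval g, hm0, Finset.sum_eq_zero (s := Finset.univ \ T) fun ξ hξ => by rw [hz ξ hξ, Nat.cast_zero, zero_mul],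
      Finset.sum_congr rfl (g := fun _ : TwoP.halfSet p => (D.chi : G → ℂ) g + 1) fun a _ => by
        rw [hψ a, D.psi_off h.self a hg, s, Nat.cast_one, one_mul, Int.cast_one],
      Finset.sum_const, Finset.card_univ, Fintype.card_coe, ← hhc, hc2, nsmul_eq_mul]
    push_cast
    ring
  · -- the sign is minus one
    obtain ⟨a₀, ha₀⟩ : ∃ a, a ∈ TwoP.halfSet p := Finset.card_pos.1 (by rw [← hhc]; omega)
    have hm1 : 1 ≤ m := by
      have := hMψ ⟨a₀, ha₀⟩
      rw [s] at this
      omega
    have hk1 : 1 ≤ k ∨ k = 0 := by omega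
    have hfp : (p : ℤ) - 1 ≤ f := by
      rcases hk1 with hk1 | rfl
      · nlinarith
      · push_cast at hfk; omega
    rcases Nat.lt_or_ge 1 m with hm2 | hm2
    · left
      refine ⟨s, ?_⟩
      have hm2' : (2 : ℤ) ≤ m := by exact_mod_cast hm2
      have e1 : (hc : ℤ) * ((p : ℤ) - 2) ≤ (hc : ℤ) * (((m : ℤ) + -1) * ((f : ℤ) + -1)) := by
        refine mul_le_mul_of_nonneg_left ?_ (Int.natCast_nonneg hc)
        nlinarith
      have hp5 : p = 5 := by
        have : (p : ℤ) ≤ 5 := by nlinarith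
        omega
      have hc2 : hc = 2 := by omega
      rw [hp5, hc2] at heq
      push_cast at heq
      have hf4 : (f : ℤ) ≤ 4 := by nlinarith
      omega
    · have hm : m = 1 := by omega
      rw [hm] at heq
      push_cast at heq
      have hfR : (f : ℤ) + p * R = 3 * p - 1 := by linear_combination -heq
      have hz : ∀ a, M (D.psi a) = 0 := fun a => by
        have := hMψ a
        rw [s, hm] at this
        omega
      have hval' : ∀ g, permChar G Ω g = 1 + (D.chi : G → ℂ) g +
          ∑ ξ ∈ Finset.univ \ T, (M ξ : ℂ) * (ξ : G → ℂ) g := fun g => by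
        rw [hval g, hm, Finset.sum_eq_zero (s := (Finset.univ : Finset (TwoP.halfSet p))) fun a _ => by
          rw [hz a, Nat.cast_zero, zero_mul], Nat.cast_one, one_mul, add_zero]
      have hR3 : R ≤ 2 := by
        by_contra hgt
        have : (p : ℤ) * 3 ≤ p * R := mul_le_mul_of_nonneg_left (by omega) (by positivity)
        omega
      interval_cases R
      · refine Or.inr (Or.inr (Or.inl ⟨s, by push_cast at hfR; omega, fun g => ?_⟩))
        rw [hval' g, Finset.sum_eq_zero fun ξ hξ => by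
          rw [(Nat.mul_eq_zero.1 ((Finset.sum_eq_zero_iff).1 hR.symm ξ hξ)).resolve_right (hKpos ξ hξ).ne',
            Nat.cast_zero, zero_mul], add_zero]
      · refine Or.inr (Or.inl ⟨s, by push_cast at hfR; omega, ?_⟩)
        obtain ⟨θ, hθ, hθne⟩ := Finset.exists_ne_zero_of_sum_ne_zero (s := Finset.univ \ T)
          (f := fun ξ => M ξ * K ξ) (by rw [← hR]; exact one_ne_zero)
        have hle : M θ * K θ ≤ 1 :=
          hR ▸ Finset.single_le_sum (f := fun ξ => M ξ * K ξ) (fun _ _ => Nat.zero_le _) hθ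
        have hpair : M θ = 1 ∧ K θ = 1 := mul_eq_one.1 (by omega)
        have hother : ∀ ξ ∈ Finset.univ \ T, ξ ≠ θ → M ξ = 0 := by
          intro ξ hξ hne
          have h2 : ∑ x ∈ ({ξ, θ} : Finset (IrrCharacter G)), M x * K x ≤ 1 := hR ▸
            Finset.sum_le_sum_of_subset (by
              intro x hx
              rcases Finset.mem_insert.1 hx with rfl | hx
              · exact hξ
              · rw [Finset.mem_singleton.1 hx]; exact hθ)
          rw [Finset.sum_pair hne, hpair.1, hpair.2] at h2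
          exact (Nat.mul_eq_zero.1 (show M ξ * K ξ = 0 by omega)).resolve_right (hKpos ξ hξ).ne'
        have hnk : θ ∉ T := (Finset.mem_sdiff.1 hθ).2
        refine ⟨θ, fun he => hnk ?_, fun he => hnk ?_, by rw [hK θ hθ, hpair.2, mul_one], hKz θ hθ, fun g => ?_⟩
        · exact Finset.mem_image.2 ⟨none, Finset.mem_univ _, Subtype.ext he.symm⟩
        · exact Finset.mem_image.2 ⟨some none, Finset.mem_univ _, he.symm⟩
        · rw [hval' g, Finset.sum_eq_single θ (fun ξ hξ hne => by
            rw [hother ξ hξ hne, Nat.cast_zero, zero_mul]) fun h' => absurd hθ h',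
            hpair.1, Nat.cast_one, one_mul]
      · exact Or.inl ⟨s, by push_cast at hfR; omega⟩

end Ctx

end ctx

end CfsgLib.Perm.ThreeP
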