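import Cfsg.Agent.Lib.Perm.ThreeP.Triple
import Cfsg.Agent.Lib.Perm.ThreeP.Arith

/-!
# A simple group of degree `3p`: the degree `3p - 1` and the prime five
-/

set_option autoImplicit false
set_option linter.unusedSectionVars false

namespace CfsgLib.Perm.ThreeP

open Cfsg CfsgLib.Char MulAction

universe u v

variable {G : Type u} [Group G] [Fintype G] {p : ℕ} [hp : Fact p.Prime] {P : Subgroup G} {t : G}
  {e : Multiplicative (ZMod p) ≃* P}
  [IsSimpleGroup G] {Ω : Type v} [Fintype Ω] [MulAction G Ω] [FaithfulSMul G Ω] [IsPretransitive G Ω]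

namespace Ctx

variable (h : Ctx p P t Ω) (D : Exc p P e)
include h D

theorem perm_t : permChar G Ω t = 3 := by
  rw [h.perm_eq, (h.fix_three D).1, Nat.cast_ofNat]

/-- The exceptional possibility with a positive sign does not occur. -/
theorem not_plus {f : ℕ} (hf : (D.chi : G → ℂ) 1 = f) (hs : D.eps = 1) (hfe : f = 6)
    (hπ : ∀ g, orderOf g ≠ p → permChar G Ω g = 3 + 2 * (D.chi : G → ℂ) g) : False := by
  have hord : orderOf t ≠ p := by rw [h.self.orderOf_t]; exact fun e' => h.self.p_ne_two e'.symm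
  have ha : (D.chi : G → ℂ) t = 0 := by
    have h1 := hπ t hord
    rw [h.perm_t D] at h1
    linear_combination -(1 / 2 : ℂ) * h1
  have hv := h.val_of_formula D (f := f) (a := 6) (X := 6) (Y := 7) (by norm_num) (by norm_num) hf
    (by rw [ha, hfe]; norm_num) (by rw [hfe, hs]; norm_num) (by norm_num)
  have h6 : (6 : ℕ).factorization 2 < 2 := by
    by_contra hc
    have hd : 2 ^ 2 ∣ 6 := (Nat.prime_two.pow_dvd_iff_le_factorization (by norm_num : (6 : ℕ) ≠ 0)).2 (not_lt.1 hc)
    norm_num at hd
  have := h.two_le_val D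
  omega

/-- The doubly transitive case does not occur. -/
theorem not_top {f : ℕ} (hf : (D.chi : G → ℂ) 1 = f) (hs : D.eps = -1) (hfe : f = 3 * p - 1)
    (hπ : ∀ g, permChar G Ω g = 1 + (D.chi : G → ℂ) g) : False := by
  classical
  obtain ⟨-, h4⟩ := h.fix_three D
  have h5 := h.self.five
  have h2t : IsMultiplyPretransitive G Ω 2 := by
    refine (isIrr_permChar_sub_one_iff Ω (by rw [h.card]; omega)).1 ?_
    rw [show (fun g => permChar G Ω g - 1) = (D.chi : G → ℂ) from funext fun g => by rw [hπ g]; ring]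
    exact D.chi.2
  haveI : Nontrivial Ω := Finite.one_lt_card_iff_nontrivial.1 (by rw [h.card]; omega)
  obtain ⟨a, b, hab⟩ := exists_pair_ne Ω
  have horb : orbit (stabilizer G a) b = {y : Ω | y ≠ a} := by
    ext y
    constructor
    · rintro ⟨w, rfl⟩ (e' : (w : G) • b = a)
      exact hab (MulAction.injective (w : G) (e'.trans w.2.symm)).symm
    · intro hy
      obtain ⟨g, hga, hgb⟩ := (is_two_pretransitive_iff (G := G) (α := Ω)).1 h2t hab (Ne.symm hy)
      exact ⟨⟨g, hga⟩, hgb⟩
  have hk : Nat.card (orbit (stabilizer G a) b) = 3 * p - 1 := by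
    rw [horb, show Nat.card ({y : Ω | y ≠ a} : Set Ω) = Nat.card {y : Ω // y ≠ a} from rfl,
      Nat.card_eq_fintype_card, Fintype.card_subtype_compl, Fintype.card_subtype_eq,
      ← Nat.card_eq_fintype_card, h.card]
  have ha : (D.chi : G → ℂ) t = 2 := by
    have h1 := hπ t
    rw [h.perm_t D] at h1
    linear_combination -h1
  have hvk : (3 * p - 1).factorization 2 = 1 := by
    refine le_antisymm ?_ ((Nat.prime_two.dvd_iff_one_le_factorization (by omega : 3 * p - 1 ≠ 0)).1 (by omega))
    by_contra hc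
    have hd : 2 ^ 2 ∣ 3 * p - 1 :=
      (Nat.prime_two.pow_dvd_iff_le_factorization (by omega : 3 * p - 1 ≠ 0)).2 (by omega)
    norm_num at hd
    omega
  have hvp := h.val_pair a b
  rw [hk, hvk] at hvp
  have hX : (3 * p - 3) ^ 2 ≠ 0 := pow_ne_zero 2 (by omega)
  have hv := h.val_of_formula D (f := f) (a := 1) (X := (3 * p - 3) ^ 2) (Y := (3 * p - 1) * (3 * p - 2)) hX
    (mul_ne_zero (by omega) (by omega)) hf
    (by rw [ha, hfe]; push_cast [Nat.cast_sub (by omega : 1 ≤ 3 * p), Nat.cast_sub (by omega : 3 ≤ 3 * p)]; ring)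
    (by rw [hfe, hs]; push_cast [Nat.cast_sub (by omega : 1 ≤ 3 * p), Nat.cast_sub (by omega : 2 ≤ 3 * p)]; ring)
    one_ne_zero
  rw [Nat.factorization_pow, Finsupp.smul_apply, smul_eq_mul,
    Nat.factorization_mul (by omega) (by omega), Finsupp.coe_add, Pi.add_apply, hvk,
    Nat.factorization_eq_zero_of_not_dvd (show ¬ 2 ∣ 3 * p - 2 by omega)] at hv
  have hv2 : 2 ≤ (3 * p - 3).factorization 2 :=
    (Nat.prime_two.pow_dvd_iff_le_factorization (by omega : 3 * p - 3 ≠ 0)).1 (by norm_num; omega)
  obtain ⟨T, hfix, hT2, hTcard⟩ := h.exists_two_group D a b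
  have hT1 : T ≠ ⊥ := fun e' => by
    rw [e', Subgroup.card_bot] at hTcard
    have := Nat.pow_eq_one.1 hTcard.symm
    omega
  obtain ⟨c, hca, hcb, hcfix, honly⟩ := h.third_point D hT2 hT1 hab hfix
  have hd := card_dvd_of_free T ((Finset.univ : Finset Ω) \ {a, b, c})
    (fun w hw x hx => by
      simp only [Finset.mem_sdiff, Finset.mem_univ, true_and, Finset.mem_insert, Finset.mem_singleton,
        not_or] at hx ⊢
      exact ⟨fun e' => hx.1 (MulAction.injective w (e'.trans (hfix w hw).1.symm)),
        fun e' => hx.2.1 (MulAction.injective w (e'.trans (hfix w hw).2.symm)),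
        fun e' => hx.2.2 (MulAction.injective w (e'.trans (hcfix w hw).symm))⟩)
    (fun w hw x hx hwx => by
      simp only [Finset.mem_sdiff, Finset.mem_univ, true_and, Finset.mem_insert, Finset.mem_singleton,
        not_or] at hx
      by_contra hw1
      rcases honly w hw hw1 x hwx with e' | e' | e'
      · exact hx.1 e'
      · exact hx.2.1 e'
      · exact hx.2.2 e')
  rw [hTcard, Finset.card_sdiff_of_subset (Finset.subset_univ _), Finset.card_univ, ← Nat.card_eq_fintype_card,
    h.card, Finset.card_insert_of_notMem (by simp [hab, hca.symm]), Finset.card_pair hcb.symm] at hd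
  have hle := (Nat.prime_two.pow_dvd_iff_le_factorization (show 3 * p - (2 + 1) ≠ 0 by omega)).1 hd
  rw [show 3 * p - (2 + 1) = 3 * p - 3 by omega] at hle
  have hν : (Nat.card G).factorization 2 = 3 := by omega
  have hL := h.recognise D hν hab (by omega)
  have hG : Nat.card G = 3 * p * (3 * p - 1) * Nat.card (stabilizer G a ⊓ stabilizer G b : Subgroup G) := by
    rw [← h.card_pair a b, hk]; ring
  refine arith_top (G := G) hp.out h5 h4 hL h.self.orderOf_t hG ?_
  have hform := h.formula D
  rw [hf, ha, hs, hfe] at hform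
  apply Int.cast_injective (α := ℂ)
  push_cast [Nat.cast_sub (by omega : 1 ≤ 3 * p)] at hform ⊢
  linear_combination hform

end Ctx

end CfsgLib.Perm.ThreeP
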