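import Cfsg.Agent.Lib.Perm.ThreeP.Triple
import Cfsg.Agent.Lib.Perm.ThreeP.Arith
import Cfsg.Agent.Lib.PushUpTwo.SLFacts
import Cfsg.Agent.Lib.Char.DegreePSubTwo.Main
import Cfsg.Agent.Lib.GW.Final
import Cfsg.Agent.S0992

/-!
# A simple primitive group of degree `3p`: the exceptional degree `p - 1`
-/

set_option autoImplicit false
set_option linter.unusedSectionVars false

namespace CfsgLib.Perm.ThreeP

open Cfsg CfsgLib.Char MulAction

universe u v

variable {G : Type u} [Group G] [Fintype G] {p : ℕ} [hp : Fact p.Prime] {P : Subgroup G} {t : G}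
  {e : Multiplicative (ZMod p) ≃* P}
  [IsSimpleGroup G] {Ω : Type v} [Fintype Ω] [MulAction G Ω] [FaithfulSMul G Ω] [IsPretransitive G Ω]

namespace Ctx

variable (h : Ctx p P t Ω) (D : Exc p P e)
include h D

/-- The linear groups in characteristic two act imprimitively. -/
theorem not_primitive_of_psl [IsPreprimitive G Ω] {F : Type} [Field F] [Fintype F] {n : ℕ}
    (hF : Fintype.card F = 2 ^ n) (g : G ≃* Matrix.ProjectiveSpecialLinearGroup (Fin 2) F) : False := by
  classical
  haveI : Fact (Nat.Prime 2) := ⟨Nat.prime_two⟩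
  obtain ⟨a⟩ : Nonempty Ω := (Nat.card_pos_iff.1 (by rw [h.card]; have := hp.out.pos; omega)).1
  haveI : Nontrivial Ω := Finite.one_lt_card_iff_nontrivial.1 (by rw [h.card]; have := h.self.five; omega)
  set H := stabilizer G a with hHdef
  obtain ⟨R⟩ : Nonempty (Sylow 2 H) := inferInstance
  set S := (R : Subgroup H).map H.subtype with hSdef
  have hν : (Nat.card H).factorization 2 = (Nat.card G).factorization 2 := by
    have h2 := H.card_mul_index
    rw [index_stabilizer_of_transitive, h.card] at h2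
    obtain ⟨j, hj⟩ := hp.out.odd_of_ne_two h.self.p_ne_two
    rw [← h2, Nat.factorization_mul Nat.card_pos.ne' (by omega), Finsupp.coe_add, Pi.add_apply,
      Nat.factorization_eq_zero_of_not_dvd (show ¬ 2 ∣ 3 * p by omega), add_zero]
  have hScard : Nat.card S = 2 ^ (Nat.card G).factorization 2 := by
    rw [hSdef, Subgroup.card_map_of_injective H.subtype_injective, R.card_eq_multiplicity, hν]
  have hcq : Nat.card (S.map g.toMonoidHom) =
      2 ^ (Nat.card (Matrix.ProjectiveSpecialLinearGroup (Fin 2) F)).factorization 2 := by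
    rw [Subgroup.card_map_of_injective (f := g.toMonoidHom) g.injective, hScard, Nat.card_congr g.toEquiv]
  obtain ⟨-, hTI, hgen, hNne⟩ := CfsgLib.PushUpTwo.psl_sylow_facts hF (Sylow.ofCard _ hcq)
  simp only [Sylow.coe_ofCard] at hTI hgen hNne
  have hmem : ∀ y : G, g y ∈ S.map g.toMonoidHom ↔ y ∈ S := fun y => Subgroup.mem_map_iff_mem g.injective
  have hNiff : ∀ x : G, g x ∈ Subgroup.normalizer ((S.map g.toMonoidHom : Subgroup _) : Set (Matrix.ProjectiveSpecialLinearGroup (Fin 2) F)) ↔
      x ∈ Subgroup.normalizer (S : Set G) := by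
    intro x
    rw [Subgroup.mem_normalizer_iff, Subgroup.mem_normalizer_iff]
    constructor
    · intro hx y
      rw [← hmem, ← hmem, map_mul, map_mul, map_inv]
      exact hx (g y)
    · intro hx y
      obtain ⟨z, rfl⟩ := g.surjective y
      rw [← map_inv, ← map_mul, ← map_mul, hmem, hmem]
      exact hx z
  have hSH : S ≤ H := Subgroup.map_subtype_le _
  have hHN : H ≤ Subgroup.normalizer (S : Set G) := by
    intro x hx
    by_contra hxN
    have htop := hgen (g x) (fun hh => hxN ((hNiff x).1 hh)) (H.map g.toMonoidHom)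
      (Subgroup.map_mono hSH) (Subgroup.mem_map_of_mem g.toMonoidHom hx)
    have h1 := (IsPreprimitive.isCoatom_stabilizer_of_isPreprimitive (G := G) a).1
    refine h1 ((Subgroup.eq_top_iff' H).2 fun y => ?_)
    exact (Subgroup.mem_map_iff_mem g.injective).1 (htop ▸ Subgroup.mem_top (g y) : g y ∈ H.map g.toMonoidHom)
  have hNtop : Subgroup.normalizer (S : Set G) ≠ ⊤ := by
    intro e'
    refine hNne ((Subgroup.eq_top_iff' _).2 fun y => ?_)
    obtain ⟨z, rfl⟩ := g.surjective y
    exact (hNiff z).2 (e' ▸ Subgroup.mem_top z)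
  have hHeq : H = Subgroup.normalizer (S : Set G) := by
    rcases lt_or_eq_of_le hHN with hlt | heq
    · exact absurd ((IsPreprimitive.isCoatom_stabilizer_of_isPreprimitive (G := G) a).2 _ hlt) hNtop
    · exact heq
  have hS2 : 2 ∣ Nat.card S := by
    rw [hScard]
    exact dvd_pow_self 2 (by have := h.two_le_val D; omega)
  obtain ⟨u, hu⟩ := exists_prime_orderOf_dvd_card' (G := S) 2 hS2
  have huo : orderOf (u : G) = 2 := by rw [Subgroup.orderOf_coe, hu]
  have hall : ∀ x : Ω, (u : G) • x = x → x = a := by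
    intro x hx
    obtain ⟨k, rfl⟩ := MulAction.exists_smul_eq G a x
    have hk : k⁻¹ * u * k ∈ H := by
      rw [hHdef, mem_stabilizer_iff, mul_smul, mul_smul, hx, inv_smul_smul]
    have hkS : k⁻¹ * u * k ∈ S := by
      set s' := k⁻¹ * (u : G) * k with hs'
      have hso : orderOf s' = 2 := by
        rw [hs', show k⁻¹ * (u : G) * k = MulAut.conj k⁻¹ (u : G) by simp [MulAut.conj_apply], MulEquiv.orderOf_eq, huo]
      have hle : Subgroup.zpowers s' ≤ Subgroup.normalizer (S : Set G) := Subgroup.zpowers_le.2 (hHeq ▸ hk)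
      have hz : IsPGroup 2 (Subgroup.zpowers s') := IsPGroup.of_card (n := 1) (by rw [Nat.card_zpowers, hso, pow_one])
      have hsup : IsPGroup 2 (Subgroup.zpowers s' ⊔ S : Subgroup G) :=
        hz.to_sup_of_normal_right' (IsPGroup.of_card hScard) hle
      obtain ⟨j, hj⟩ := IsPGroup.iff_card.1 hsup
      have hjle : j ≤ (Nat.card G).factorization 2 :=
        (Nat.prime_two.pow_dvd_iff_le_factorization Nat.card_pos.ne').1 (hj ▸ Subgroup.card_subgroup_dvd_card _)
      have heq : (Subgroup.zpowers s' ⊔ S : Subgroup G) = S := (Subgroup.eq_of_le_of_card_ge le_sup_right (by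
        rw [hj, hScard]; exact Nat.pow_le_pow_right two_pos hjle)).symm
      exact heq ▸ (le_sup_left : Subgroup.zpowers s' ≤ _) (Subgroup.mem_zpowers s')
    have h1 : g k⁻¹ ∈ Subgroup.normalizer ((S.map g.toMonoidHom : Subgroup _) : Set (Matrix.ProjectiveSpecialLinearGroup (Fin 2) F)) := by
      refine hTI _ (g u) ((hmem _).2 u.2) (fun e' => ?_) ?_
      · rw [← map_one g] at e'
        rw [g.injective e', orderOf_one] at huo
        omega
      · rw [← map_inv g, ← map_mul, ← map_mul, hmem, inv_inv]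
        exact hkS
    have h2 : k ∈ H := hHeq ▸ (inv_inv k ▸ inv_mem ((hNiff _).1 h1))
    exact h2
  have hle : Nat.card {x : Ω // (u : G) • x = x} ≤ 1 := Finite.card_le_one_iff_subsingleton.2
    ⟨fun x y => Subtype.ext ((hall _ x.2).trans (hall _ y.2).symm)⟩
  rw [h.fix_invol D huo, (h.fix_three D).1] at hle
  omega

omit [FaithfulSMul G Ω] [IsPretransitive G Ω] in
/-- For `p > 5` the group is linear in characteristic two. -/
theorem psl_of_low (hp5 : 5 < p) {f : ℕ} (hf : (D.chi : G → ℂ) 1 = f) (hfe : f = p - 1) (hs : D.eps = -1) :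
    ∃ (n : ℕ) (F : Type) (_ : Field F) (_ : Fintype F), Fintype.card F = 2 ^ n ∧
      Nonempty (G ≃* Matrix.ProjectiveSpecialLinearGroup (Fin 2) F) := by
  classical
  obtain ⟨a₀, ha₀⟩ : (TwoP.halfSet p).Nonempty := Finset.card_pos.1 (by
    have := two_mul_half h.self; omega)
  set ψ := D.psi ⟨a₀, ha₀⟩ with hψ
  have hψ1 : (ψ : G → ℂ) 1 = ((p - 2 : ℕ) : ℂ) := by
    rw [hψ, D.psi_one h.self, hf, hfe, hs, Nat.cast_sub hp.out.one_le, Nat.cast_sub hp.out.two_le]
    push_cast; ring
  have hdvd : p ∣ Nat.card G := h.self.card ▸ Subgroup.card_subgroup_dvd_card P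
  have hnn : ∀ Q : Subgroup G, Nat.card Q = p → ¬ Q.Normal := by
    intro Q hQ hn
    rcases hn.eq_bot_or_eq_top with e' | e'
    · rw [e', Subgroup.card_bot] at hQ
      omega
    · have h2 : 2 ∣ p := by
        rw [← hQ, e', Subgroup.card_top, ← h.self.orderOf_t]
        exact orderOf_dvd_natCard t
      have := hp.out.odd_of_ne_two h.self.p_ne_two
      exact Nat.not_even_iff_odd.2 this (even_iff_two_dvd.2 h2)
  obtain ⟨n, F, i, j, -, hF, ⟨g⟩⟩ := CfsgLib.Char.DegreePSubTwo.classify hp5 hdvd h.sq hnn ψ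
    (by simp [charDegree, hψ1]) (fun g hg => h.eq_one_of_value ψ (D.psi_ne_one _) hg)
  haveI := (CfsgLib.PushUp.charP_of_card (p := 2) hF).1
  have hZ : Subgroup.center G = ⊥ := (IsSimpleGroup.eq_bot_or_eq_top_of_normal _ inferInstance).resolve_right
    fun e' => h.nonab ⟨⟨fun x y => (Subgroup.mem_center_iff.1 (e' ▸ Subgroup.mem_top y) x)⟩⟩
  haveI : Unique (Subgroup.center G) :=
    { default := 1, uniq := fun x => Subtype.ext ((Subgroup.eq_bot_iff_forall _).1 hZ x x.2) }
  exact ⟨n, F, i, j, hF, ⟨(g.trans MulEquiv.prodUnique).trans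
    (MulEquiv.ofBijective CfsgLib.PushUpTwo.toPSL CfsgLib.PushUpTwo.toPSL_bijective)⟩⟩

/-- The prime five with the degree four. -/
theorem not_primitive_five [IsPreprimitive G Ω] {f : ℕ} (hf : (D.chi : G → ℂ) 1 = f) (hfe : f = p - 1)
    (hs : D.eps = -1) (hp5 : p = 5) : False := by
  classical
  haveI : Fact (Nat.Prime 2) := ⟨Nat.prime_two⟩
  obtain ⟨m, n, hmn, ha⟩ := value_t h.self (isCharacter_irr D.chi) (c0 := -1) (k := 0)
    (fun u hu h1 => by rw [D.chi_on h.self hu h1, hs, Int.cast_neg, Int.cast_one])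
    (by rw [hf, hfe, Nat.cast_sub hp.out.one_le]; push_cast; ring)
  have hm : m = 0 ∧ n = 0 := by omega
  rw [hm.1, hm.2, Nat.cast_zero, sub_zero] at ha
  have hv := h.val_of_formula D (f := f) (a := 4) (X := 4) (Y := 3) (by norm_num) (by norm_num) hf
    (by rw [ha, hfe, hp5]; norm_num) (by rw [hfe, hs, hp5]; norm_num) (by norm_num)
  have hν : (Nat.card G).factorization 2 = 2 := by
    rw [show (4 : ℕ) = 2 ^ 2 by norm_num, Nat.prime_two.factorization_pow, Finsupp.single_eq_same,
      Nat.factorization_eq_zero_of_not_dvd (show ¬ 2 ∣ 3 by norm_num), add_zero] at hv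
    omega
  have h8 : ¬ 8 ∣ Nat.card G := by
    intro hd
    have := (Nat.prime_two.pow_dvd_iff_le_factorization (k := 3) Nat.card_pos.ne').1 (show 2 ^ 3 ∣ Nat.card G from hd)
    omega
  have h2 : Even (Nat.card G) := even_iff_two_dvd.2 (h.self.orderOf_t ▸ orderOf_dvd_natCard t)
  obtain ⟨a⟩ : Nonempty Ω := (Nat.card_pos_iff.1 (by rw [h.card]; have := hp.out.pos; omega)).1
  haveI : Nontrivial Ω := Finite.one_lt_card_iff_nontrivial.1 (by rw [h.card]; omega)
  set H := stabilizer G a with hHdef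
  have h15 := H.card_mul_index
  rw [index_stabilizer_of_transitive, h.card, hp5] at h15
  obtain ⟨T₀⟩ : Nonempty (Sylow 2 G) := inferInstance
  obtain ⟨hK, -⟩ := Cfsg.Agent.S0992.result h.nonab h2 h8 T₀
  haveI := hK
  haveI : IsKleinFour (DihedralGroup 2) := inferInstance
  have hdih : CfsgLib.GW.DihTwo G := CfsgLib.GW.dihTwo_of_sylow T₀ le_rfl (IsKleinFour.nonempty_mulEquiv.some)
  haveI : Group.IsPerfect G := by
    rw [Group.isPerfect_def]
    refine (IsSimpleGroup.eq_bot_or_eq_top_of_normal (commutator G) inferInstance).resolve_left fun e' => ?_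
    refine h.nonab ⟨⟨fun q q' => ?_⟩⟩
    have hm' := Subgroup.commutator_mem_commutator (G := G) (Subgroup.mem_top q) (Subgroup.mem_top q')
    rw [← commutator_def, e', Subgroup.mem_bot, commutatorElement_eq_one_iff_mul_comm] at hm'
    exact hm'
  have hO := CfsgLib.TwoNilp.oddCore_eq_bot (G := G) h.nonab
  have hL : CfsgLib.GW.IsPSLTwoOrA7 G := CfsgLib.GW.IsPSLTwoOrA7.congr
    ((QuotientGroup.quotientBot (G := G)).symm.trans (QuotientGroup.quotientMulEquivOfEq hO.symm))
    (CfsgLib.GW.gw_perfect G hdih)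
  have hform := h.formula D
  rw [hf, ha, hfe, hs, hp5] at hform
  set c := Nat.card (Subgroup.centralizer ({t} : Set G)) with hcdef
  have hformz : (Nat.card G : ℤ) * 16 = 5 * (c : ℤ) ^ 2 * 12 := by
    apply Int.cast_injective (α := ℂ)
    push_cast at hform ⊢
    linear_combination hform
  rcases order_data hL h.self.orderOf_t with h7 | ⟨F, i, j, q, δ, -, hδ, hq, hc, -⟩
  · rw [h7] at h8
    norm_num at h8
  · rw [← hcdef] at hc
    have hcpos : (0 : ℤ) < c := by exact_mod_cast (Nat.card_pos : 0 < c)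
    have hk : (q : ℤ) * ((q : ℤ) + δ) * 2 = 15 * c := by
      refine mul_left_cancel₀ (mul_ne_zero (by norm_num : (4 : ℤ) ≠ 0) hcpos.ne') ?_
      have : 2 * (Nat.card G : ℤ) = (q : ℤ) * ((q : ℤ) + δ) * c := by
        rw [hq, hc]; rcases hδ with rfl | rfl <;> ring
      linear_combination hformz - 8 * this
    have hq5 : q = 5 ∧ δ = 1 := by
      rw [hc] at hk
      have hlt : q < 11 := by
        by_contra hge
        have : (11 : ℤ) ≤ q := by exact_mod_cast not_lt.1 hge
        rcases hδ with rfl | rfl <;> nlinarith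
      rcases hδ with rfl | rfl <;> interval_cases q <;> simp_all
    obtain ⟨rfl, rfl⟩ := hq5
    have h60 : Nat.card G = 60 := by push_cast at hq; omega
    have hH4 : Nat.card H = 4 := by omega
    let T : Sylow 2 G := Sylow.ofCard H (by rw [hH4, hν]; norm_num)
    obtain ⟨hK', hrel⟩ := Cfsg.Agent.S0992.result h.nonab h2 h8 T
    have hTH : (T : Subgroup G) = H := Sylow.coe_ofCard _ _
    rw [hTH] at hrel
    have hcoat := IsPreprimitive.isCoatom_stabilizer_of_isPreprimitive (G := G) a
    rcases (Subgroup.le_normalizer : H ≤ Subgroup.normalizer (H : Set G)).lt_or_eq with hlt | heq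
    · have hn : H.Normal := Subgroup.normalizer_eq_top_iff.1 (hcoat.2 _ hlt)
      rcases hn.eq_bot_or_eq_top with e' | e'
      · rw [e', Subgroup.card_bot] at hH4; omega
      · rw [e', Subgroup.card_top] at hH4; omega
    · have hcle : H ≤ Subgroup.centralizer (H : Set G) := by
        haveI : IsKleinFour (T : Subgroup G) := hK'
        have hcomm := IsKleinFour.isMulCommutative (G := (T : Subgroup G))
        intro x hx
        exact Subgroup.mem_centralizer_iff.2 fun y hy => congrArg Subtype.val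
          (hcomm.is_comm.comm (⟨y, hTH.ge hy⟩ : (T : Subgroup G)) ⟨x, hTH.ge hx⟩)
      rw [← heq, Subgroup.relIndex_eq_one.2 hcle] at hrel
      omega

/-- The degree `p - 1` does not occur. -/
theorem not_low [IsPreprimitive G Ω] {f : ℕ} (hf : (D.chi : G → ℂ) 1 = f) (hfe : f = p - 1)
    (hs : D.eps = -1) : False := by
  rcases eq_or_lt_of_le h.self.five with hp5 | hp5
  · exact h.not_primitive_five D hf hfe hs hp5.symm
  · obtain ⟨n, F, i, j, hF, ⟨g⟩⟩ := h.psl_of_low D hp5 hf hfe hs
    exact h.not_primitive_of_psl D hF g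

end Ctx

end CfsgLib.Perm.ThreeP
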