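import Cfsg.Agent.Lib.Perm.ThreeP.DegreeHigh

/-!
# A simple group of degree `3p`: the degree `2p - 1`
-/

set_option autoImplicit false
set_option linter.unusedSectionVars false

namespace CfsgLib.Perm.ThreeP

open Cfsg CfsgLib.Char MulAction

universe u v

variable {G : Type u} [Group G] [Fintype G] {p : ℕ} [hp : Fact p.Prime] {P : Subgroup G} {t : G}
  {e : Multiplicative (ZMod p) ≃* P}
  [IsSimpleGroup G] {Ω : Type v} [Fintype Ω] [MulAction G Ω] [FaithfulSMul G Ω] [IsPretransitive G Ω]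

namespace Ctx

variable (h : Ctx p P t Ω) (D : Exc p P e)
include h D

/-- The value at an involution. -/
theorem mid_value {f : ℕ} (hf : (D.chi : G → ℂ) 1 = f) (hs : D.eps = -1) (hfe : f = 2 * p - 1)
    (θ : IrrCharacter G) (hθ1 : (θ : G → ℂ) 1 = p) (hθu : ∀ u ∈ P, u ≠ (1 : G) → (θ : G → ℂ) u = 0)
    (hπ : ∀ g, permChar G Ω g = 1 + (D.chi : G → ℂ) g + (θ : G → ℂ) g) : (D.chi : G → ℂ) t = 1 := by
  obtain ⟨m, n, hmn, ha⟩ := value_t h.self (isCharacter_irr D.chi) (c0 := -1) (k := 1)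
    (fun u hu h1 => by rw [D.chi_on h.self hu h1, hs, Int.cast_neg, Int.cast_one])
    (by have := hp.out.pos; rw [hf, hfe, Nat.cast_sub (by omega : 1 ≤ 2 * p)]; push_cast; ring)
  obtain ⟨m', n', hmn', hb⟩ := value_t h.self (isCharacter_irr θ) (c0 := 0) (k := 1) hθu
    (by rw [hθ1]; push_cast; ring)
  have h1 := hπ t
  rw [h.perm_t D, ha, hb] at h1
  rcases (by omega : (m = 0 ∧ n = 1) ∨ (m = 1 ∧ n = 0)) with ⟨rfl, rfl⟩ | ⟨rfl, rfl⟩
  · exfalso
    rcases (by omega : (m' = 0 ∧ n' = 1) ∨ (m' = 1 ∧ n' = 0)) with ⟨rfl, rfl⟩ | ⟨rfl, rfl⟩ <;> norm_num at h1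
  · rw [ha]; norm_num

/-- Degree `2p - 1`, given the parameters of the rank three graph. -/
theorem mid_of_params {f : ℕ} (hf : (D.chi : G → ℂ) 1 = f) (hs : D.eps = -1) (hfe : f = 2 * p - 1)
    (hat : (D.chi : G → ℂ) t = 1) {a b : Ω} (hab : a ≠ b) {r : ℤ}
    (hr : 6 * r ^ 2 + 3 * r + 1 = 2 * (p : ℤ))
    (hk : (Nat.card (orbit (stabilizer G a) b) : ℤ) = p + r)
    (hl : ∀ c, c ≠ a → c ∉ orbit (stabilizer G a) b →
      (Nat.card (orbit (stabilizer G a) c) : ℤ) = 2 * p - 1 - r)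
    (hswap : ∃ g : G, g • a = b ∧ g • b = a)
    (hcount : 2 * (Nat.card {x : Ω // (∃ g : G, g • a = a ∧ g • b = x) ∧ (∃ g : G, g • a = b ∧ g • b = x)} : ℤ) =
      (2 * r - 1) * (r + 1)) :
    p = 5 ∧ Nonempty (G ≃* ↥(alternatingGroup (Fin 6))) := by
  classical
  obtain ⟨-, h4⟩ := h.fix_three D
  have h5 := h.self.five
  have hr8 : r % 8 = 1 := by
    have h1 : (6 * r ^ 2 + 3 * r + 1) % 8 = (2 * (p : ℤ)) % 8 := by rw [hr]
    obtain ⟨m, s, hs0, hs8, rfl⟩ : ∃ m s : ℤ, 0 ≤ s ∧ s < 8 ∧ r = 8 * m + s :=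
      ⟨r / 8, r % 8, by omega, by omega, by omega⟩
    have h2 : 6 * (8 * m + s) ^ 2 + 3 * (8 * m + s) + 1 = 8 * (48 * m ^ 2 + 12 * m * s + 3 * m) + (6 * s ^ 2 + 3 * s + 1) := by
      ring
    rw [h2] at h1
    interval_cases s <;> omega
  set k := Nat.card (orbit (stabilizer G a) b) with hkdef
  have hk4 : k % 4 = 2 := by omega
  have hvk : k.factorization 2 = 1 := by
    refine le_antisymm ?_ ((Nat.prime_two.dvd_iff_one_le_factorization (by omega : k ≠ 0)).1 (by omega))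
    by_contra hc
    have hd : 2 ^ 2 ∣ k := (Nat.prime_two.pow_dvd_iff_le_factorization (by omega : k ≠ 0)).2 (by omega)
    norm_num at hd
    omega
  have hvp := h.val_pair a b
  rw [← hkdef, hvk] at hvp
  have hv := h.val_of_formula D (f := f) (a := 2 * (p - 1)) (X := 2 * (p - 1)) (Y := 2 * p - 1)
    (by omega) (by omega) hf
    (by rw [hat, hfe]; push_cast [Nat.cast_sub hp.out.one_le, Nat.cast_sub (by omega : 1 ≤ 2 * p)]; ring)
    (by rw [hfe, hs]; push_cast [Nat.cast_sub hp.out.one_le, Nat.cast_sub (by omega : 1 ≤ 2 * p)]; ring)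
    (by omega)
  rw [Nat.factorization_mul two_ne_zero (by omega), Finsupp.coe_add, Pi.add_apply,
    Nat.prime_two.factorization_self, Nat.factorization_eq_zero_of_not_dvd (show ¬ 2 ∣ 2 * p - 1 by omega)] at hv
  have hv2 : 2 ≤ (p - 1).factorization 2 :=
    (Nat.prime_two.pow_dvd_iff_le_factorization (by omega : p - 1 ≠ 0)).1 (by norm_num; omega)
  obtain ⟨T, hfix, hT2, hTcard⟩ := h.exists_two_group D a b
  have hT1 : T ≠ ⊥ := fun e' => by
    rw [e', Subgroup.card_bot] at hTcard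
    have := Nat.pow_eq_one.1 hTcard.symm
    omega
  obtain ⟨c, hca, hcb, hcfix, honly⟩ := h.third_point D hT2 hT1 hab hfix
  -- a two-group of this order fixing `a` fixes no point of the longer suborbit
  have hnear : ∀ U : Subgroup G, Nat.card U = Nat.card T → ∀ x : Ω, x ≠ a →
      (∀ w ∈ U, w • a = a ∧ w • x = x) → ∃ g : G, g • a = a ∧ g • b = x := by
    intro U hU x hxa hUx
    by_contra hno
    have hxo : x ∉ orbit (stabilizer G a) b := fun ⟨w, hw⟩ => hno ⟨w, w.2, hw⟩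
    have hlv := hl x hxa hxo
    set l := Nat.card (orbit (stabilizer G a) x) with hldef
    have hl0 : l ≠ 0 := by
      haveI : Nonempty (orbit (stabilizer G a) x) := ⟨⟨x, mem_orbit_self x⟩⟩
      exact Nat.card_pos.ne'
    have hl2 : 2 ≤ l.factorization 2 :=
      (Nat.prime_two.pow_dvd_iff_le_factorization hl0).1 (by norm_num; omega)
    have hvx := h.val_pair a x
    rw [← hldef] at hvx
    have hdU : Nat.card U ∣ Nat.card (stabilizer G a ⊓ stabilizer G x : Subgroup G) :=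
      Subgroup.card_dvd_of_le fun w hw => hUx w hw
    rw [hU, hTcard] at hdU
    have := (Nat.prime_two.pow_dvd_iff_le_factorization Nat.card_pos.ne').1 hdU
    omega
  have hc1 := hnear T rfl c hca fun w hw => ⟨(hfix w hw).1, hcfix w hw⟩
  obtain ⟨s₀, hsa, hsb⟩ := hswap
  have hc2 : ∃ g : G, g • a = b ∧ g • b = c := by
    obtain ⟨g, hga, hgb⟩ := hnear (T.map (MulAut.conj s₀).toMonoidHom)
      (Subgroup.card_map_of_injective (MulAut.conj s₀).injective) (s₀ • c)
      (fun e' => hcb (MulAction.injective s₀ (e'.trans hsb.symm))) (by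
        rintro w ⟨z, hz, rfl⟩
        have hza : s₀⁻¹ • a = b := inv_smul_eq_iff.2 hsb.symm
        refine ⟨?_, ?_⟩ <;>
          simp only [MulEquiv.coe_toMonoidHom, MulAut.conj_apply, mul_smul, hza, inv_smul_smul,
            (hfix z hz).2, hcfix z hz, hsb])
    exact ⟨s₀⁻¹ * g, by rw [mul_smul, hga, inv_smul_eq_iff.2 hsb.symm], by rw [mul_smul, hgb, inv_smul_smul]⟩
  set X : Finset Ω := Finset.univ.filter fun x : Ω =>
    (∃ g : G, g • a = a ∧ g • b = x) ∧ (∃ g : G, g • a = b ∧ g • b = x) with hX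
  have hmemX : ∀ x, x ∈ X ↔ (∃ g : G, g • a = a ∧ g • b = x) ∧ (∃ g : G, g • a = b ∧ g • b = x) := fun x => by
    simp [hX]
  have hd := card_dvd_of_free T (X.erase c)
    (fun w hw x hx => by
      rw [Finset.mem_erase, hmemX] at hx ⊢
      obtain ⟨hxc, ⟨g, hga, hgb⟩, g', hga', hgb'⟩ := hx
      exact ⟨fun e' => hxc (MulAction.injective w (e'.trans (hcfix w hw).symm)),
        ⟨w * g, by rw [mul_smul, hga, (hfix w hw).1], by rw [mul_smul, hgb]⟩,
        w * g', by rw [mul_smul, hga', (hfix w hw).2], by rw [mul_smul, hgb']⟩)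
    (fun w hw x hx hwx => by
      rw [Finset.mem_erase, hmemX] at hx
      obtain ⟨hxc, ⟨g, hga, hgb⟩, g', hga', hgb'⟩ := hx
      by_contra hw1
      rcases honly w hw hw1 x hwx with e' | e' | e'
      · exact hab (MulAction.injective g (hga.trans (hgb.trans e').symm))
      · exact hab (MulAction.injective g' (hga'.trans (hgb'.trans e').symm))
      · exact hxc e')
  have hXc : (X.erase c).card + 1 =
      Nat.card {x : Ω // (∃ g : G, g • a = a ∧ g • b = x) ∧ (∃ g : G, g • a = b ∧ g • b = x)} := by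
    rw [Finset.card_erase_add_one ((hmemX c).2 ⟨hc1, hc2⟩), Nat.card_eq_fintype_card, Fintype.card_subtype, hX]
  rw [hTcard] at hd
  obtain ⟨j, hj⟩ := hd
  set v := (p - 1).factorization 2 with hvdef
  have hvab : (Nat.card (stabilizer G a ⊓ stabilizer G b : Subgroup G)).factorization 2 = v := by omega
  rw [hvab] at hj
  have hje : 2 * ((2 : ℤ) ^ v * j) = (2 * r + 3) * (r - 1) := by
    rw [← hXc, hj] at hcount
    push_cast at hcount
    linear_combination hcount
  have hy : (2 : ℤ) ^ v ∣ (r - 1) / 2 := by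
    have h1 : (2 : ℤ) ^ v ∣ (2 * r + 3) * ((r - 1) / 2) := ⟨j, by
      have : (r - 1) / 2 * 2 = r - 1 := Int.ediv_mul_cancel (by omega)
      refine mul_left_cancel₀ (two_ne_zero (α := ℤ)) ?_
      linear_combination (2 * r + 3) * this - hje⟩
    refine (IsCoprime.pow_left ?_).dvd_of_dvd_mul_left h1
    exact ⟨-(r + 1), 1, by ring⟩
  have hp1 : (2 : ℤ) ^ v ∣ (p : ℤ) - 1 := by
    have := Nat.ordProj_dvd (p - 1) 2
    rw [← hvdef] at this
    have h' := Int.natCast_dvd_natCast.2 this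
    push_cast [Nat.cast_sub hp.out.one_le] at h'
    exact h'
  have h4v : (2 : ℤ) ^ v ∣ 4 := by
    obtain ⟨y, hy'⟩ : ∃ y, (r - 1) / 2 = y := ⟨_, rfl⟩
    have hry : r = 2 * y + 1 := by omega
    have hpe : (p : ℤ) - 1 = 4 + y * (15 + 12 * y) := by
      subst hry
      refine mul_left_cancel₀ (two_ne_zero (α := ℤ)) ?_
      linear_combination -hr
    rw [hy'] at hy
    rw [hpe] at hp1
    exact (Int.dvd_add_left (hy.mul_right _)).1 hp1
  have hv' : v ≤ 2 := by
    have : (2 ^ v : ℕ) ∣ 4 := by exact_mod_cast h4v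
    have h' := Nat.le_of_dvd (by norm_num) this
    by_contra hgt
    have : 2 ^ 3 ≤ 2 ^ v := Nat.pow_le_pow_right two_pos (by omega)
    omega
  have hν : (Nat.card G).factorization 2 = 3 := by omega
  have hL := h.recognise D hν hab (by omega)
  refine arith_mid (G := G) hp.out h5 h4 hr hL h.self.orderOf_t (h.self.card ▸ Subgroup.card_subgroup_dvd_card P) ?_
  have hform := h.formula D
  rw [hf, hat, hs, hfe] at hform
  have hne : ((2 * p - 1 : ℕ) : ℂ) - 1 ≠ 0 := sub_ne_zero.2 (by exact_mod_cast (by omega : 2 * p - 1 ≠ 1))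
  apply Int.cast_injective (α := ℂ)
  push_cast [Nat.cast_sub (by omega : 1 ≤ 2 * p)] at hform hne ⊢
  refine mul_left_cancel₀ hne ?_
  linear_combination hform

end Ctx

end CfsgLib.Perm.ThreeP
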