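import Cfsg.Agent.Lib.Perm.ThreeP.Induced
import Cfsg.Agent.Lib.Char.ClassMul

/-!
# A self-centralizing subgroup of prime order with normalizer of order `2p`: exceptional characters
-/

set_option autoImplicit false
set_option linter.unusedSectionVars false

namespace CfsgLib.Perm.ThreeP

open Cfsg CfsgLib.Char
open scoped ComplexConjugate

universe u

variable {G : Type u} [Group G] [Fintype G] {p : ℕ} [hp : Fact p.Prime] {P : Subgroup G} {t : G}

/-- A generalized character of norm two with value `-1` at the identity. -/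
theorem exists_pair_of_norm_two {τ : G → ℂ} (h : IsGeneralizedCharacter G τ) (h1 : τ 1 = -1)
    (h2 : classInner τ τ = 2) :
    ∃ a b : IrrCharacter G, a ≠ b ∧ τ = (a : G → ℂ) - b := by
  classical
  have := Fintype.ofFinite (IrrCharacter G)
  obtain ⟨m, -, hexp, hnorm⟩ := generalized_expand h
  rw [h2] at hnorm
  have hsq : ∑ ψ : IrrCharacter G, (m ψ) ^ 2 = 2 := by exact_mod_cast hnorm.symm
  have hle : ∀ ψ, m ψ = 0 ∨ m ψ = 1 ∨ m ψ = -1 := by
    intro ψ
    have h3 : m ψ ^ 2 ≤ 2 := hsq ▸ Finset.single_le_sum (fun i _ => sq_nonneg (m i)) (Finset.mem_univ ψ)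
    have h4 : -1 ≤ m ψ := by nlinarith
    have h5 : m ψ ≤ 1 := by nlinarith
    omega
  set S := Finset.univ.filter fun ψ => m ψ ≠ 0 with hS
  have hcard : S.card = 2 := by
    have : ∑ ψ : IrrCharacter G, (m ψ) ^ 2 = ∑ ψ : IrrCharacter G, if m ψ ≠ 0 then (1 : ℤ) else 0 :=
      Finset.sum_congr rfl fun ψ _ => by rcases hle ψ with e | e | e <;> simp [e]
    rw [this, Finset.sum_boole] at hsq
    exact_mod_cast hsq
  obtain ⟨a, b, hab, hSab⟩ := Finset.card_eq_two.mp hcard
  have hτ : τ = (m a : ℂ) • (a : G → ℂ) + (m b : ℂ) • (b : G → ℂ) := by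
    rw [hexp, ← Finset.sum_subset (Finset.subset_univ S), hSab, Finset.sum_pair hab]
    intro x _ hx
    simp only [S, Finset.mem_filter, Finset.mem_univ, true_and, not_not] at hx
    simp [hx]
  obtain ⟨da, hda, hea⟩ := isIrrCharacter_degree a.2
  obtain ⟨db, hdb, heb⟩ := isIrrCharacter_degree b.2
  have hsum : m a * (da : ℤ) + m b * (db : ℤ) = -1 := by
    have := congrFun hτ 1
    simp only [Pi.add_apply, Pi.smul_apply, smul_eq_mul, h1, hea, heb] at this
    exact_mod_cast this.symm
  have ha : m a ≠ 0 := (Finset.mem_filter.mp (show a ∈ S by simp [hSab])).2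
  have hb : m b ≠ 0 := (Finset.mem_filter.mp (show b ∈ S by simp [hSab])).2
  rcases hle a with e | e | e
  · exact absurd e ha
  · rcases hle b with e' | e' | e'
    · exact absurd e' hb
    · rw [e, e'] at hsum; omega
    · exact ⟨a, b, hab, by rw [hτ, e, e']; push_cast; rw [one_smul, neg_one_smul, sub_eq_add_neg]⟩
  · rcases hle b with e' | e' | e'
    · exact absurd e' hb
    · exact ⟨b, a, hab.symm, by
        rw [hτ, e, e']; push_cast; rw [one_smul, neg_one_smul, sub_eq_add_neg, add_comm]⟩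
    · rw [e, e'] at hsum; omega

/-- The exceptional characters. -/
structure Exc (p : ℕ) [Fact p.Prime] {G : Type u} [Group G] [Fintype G] (P : Subgroup G)
    (e : Multiplicative (ZMod p) ≃* P) where
  eps : ℤ
  chi : IrrCharacter G
  psi : TwoP.halfSet p → IrrCharacter G
  sign : eps = 1 ∨ eps = -1
  psi_inj : Function.Injective psi
  psi_ne_chi : ∀ a, psi a ≠ chi
  chi_ne_one : (chi : G → ℂ) ≠ fun _ => 1
  psi_ne_one : ∀ a, (psi a : G → ℂ) ≠ fun _ => 1
  tau_eq : ∀ a : TwoP.halfSet p, tauF e a.1 = (eps : ℂ) • ((chi : G → ℂ) - psi a)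

theorem exists_exc (h : SelfTwo p P t) (e : Multiplicative (ZMod p) ≃* P) : Nonempty (Exc p P e) := by
  classical
  have hτ : ∀ a : TwoP.halfSet p, ∃ A B : IrrCharacter G, A ≠ B ∧ tauF e a.1 = (A : G → ℂ) - B :=
    fun a => exists_pair_of_norm_two (isGeneralized_tauF e a.1)
      (tauF_off h e a.1 (by rw [orderOf_one]; exact hp.out.ne_one.symm))
      (by rw [inner_tauF_tauF h e a.2 a.2, if_pos rfl])
  choose A B hAB hτ using hτ
  let one : IrrCharacter G := ⟨_, isIrrCharacter_one⟩
  have hone : ∀ a, A a ≠ one ∧ B a ≠ one := by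
    intro a
    have h0 := inner_tauF_one h e (Finset.mem_filter.1 a.2).2.1
    rw [hτ a, classInner_sub_left, show (fun _ : G => (1 : ℂ)) = (one : G → ℂ) from rfl, classInner_irr,
      classInner_irr] at h0
    constructor <;> intro he
    · rw [if_pos he, if_neg fun hb => hAB a (he.trans hb.symm)] at h0; norm_num at h0
    · rw [if_pos he, if_neg fun ha => hAB a (ha.trans he.symm)] at h0; norm_num at h0
  have hdeg : ∀ a, (B a : G → ℂ) 1 = (A a : G → ℂ) 1 + 1 := by
    intro a
    have := congrFun (hτ a) 1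
    rw [tauF_off h e a.1 (by rw [orderOf_one]; exact hp.out.ne_one.symm), Pi.sub_apply] at this
    linear_combination this
  have pair : ∀ a b, a ≠ b → (A a = A b ∧ B a ≠ B b) ∨ (A a ≠ A b ∧ B a = B b) := by
    intro a b hab
    have h1 := inner_tauF_tauF h e a.2 b.2
    rw [if_neg fun e' => hab (Subtype.ext e'), hτ a, hτ b, classInner_sub_left, classInner_sub_right,
      classInner_sub_right, classInner_irr, classInner_irr, classInner_irr, classInner_irr] at h1
    by_cases e3 : A a = B b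
    · exfalso
      have hd : (A b : G → ℂ) 1 + 1 = (A a : G → ℂ) 1 := by rw [e3, hdeg b]
      have n1 : A a ≠ A b := fun e' => hAB b (e'.symm.trans e3)
      have n2 : B a ≠ B b := fun e' => hAB a (e3.trans e'.symm)
      have n3 : B a ≠ A b := fun e' => by
        have := hdeg a
        rw [e'] at this
        exact two_ne_zero (α := ℂ) (by linear_combination hd - this)
      rw [if_neg n1, if_pos e3, if_neg n3, if_neg n2] at h1
      norm_num at h1
    · by_cases e4 : B a = A b
      · exfalso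
        have n1 : A a ≠ A b := fun e' => hAB a (e'.trans e4.symm)
        have n2 : B a ≠ B b := fun e' => hAB b (e4.symm.trans e')
        rw [if_neg n1, if_neg e3, if_pos e4, if_neg n2] at h1
        norm_num at h1
      · rw [if_neg e3, if_neg e4] at h1
        by_cases e1 : A a = A b <;> by_cases e2 : B a = B b
        · rw [if_pos e1, if_pos e2] at h1; norm_num at h1
        · exact Or.inl ⟨e1, e2⟩
        · exact Or.inr ⟨e1, e2⟩
        · rw [if_neg e1, if_neg e2] at h1; norm_num at h1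
  obtain ⟨a₀⟩ : Nonempty (TwoP.halfSet p) := by
    refine Finset.Nonempty.to_subtype (Finset.card_pos.1 ?_)
    have h2 : (2 * (TwoP.halfSet p).card : ℕ) = p - 1 := by
      have h3 := TwoP.card_halfSet (p := p) h.p_ne_two
      have h4 : ((2 * (TwoP.halfSet p).card : ℕ) : ℂ) = ((p - 1 : ℕ) : ℂ) := by
        rw [Nat.cast_sub hp.out.one_le]; push_cast; exact h3
      exact_mod_cast h4
    have := h.five
    omega
  have uni : (∀ a, A a = A a₀) ∨ (∀ a, B a = B a₀) := by
    by_contra hc
    push Not at hc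
    obtain ⟨⟨j, hja⟩, ⟨k, hkb⟩⟩ := hc
    have hjne : j ≠ a₀ := fun e' => hja (by rw [e'])
    have hkne : k ≠ a₀ := fun e' => hkb (by rw [e'])
    have hjb : B j = B a₀ := ((pair j a₀ hjne).resolve_left fun h' => hja h'.1).2
    have hka : A k = A a₀ := ((pair k a₀ hkne).resolve_right fun h' => hkb h'.2).1
    have hjk : j ≠ k := fun e' => hja (by rw [e']; exact hka)
    rcases pair j k hjk with ⟨e', -⟩ | ⟨-, e'⟩
    · exact hja (e'.trans hka)
    · exact hkb (e'.symm.trans hjb)
  rcases uni with hA | hB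
  · refine ⟨⟨1, A a₀, B, Or.inl rfl, fun a b hab => ?_, fun a he => hAB a ((hA a).trans he.symm),
      fun he => (hone a₀).1 (Subtype.ext he), fun a he => (hone a).2 (Subtype.ext he), fun a => ?_⟩⟩
    · by_contra hne
      exact ((pair a b hne).resolve_right fun h' => h'.1 ((hA a).trans (hA b).symm)).2 hab
    · rw [hτ a, hA a, Int.cast_one, one_smul]
  · refine ⟨⟨-1, B a₀, A, Or.inr rfl, fun a b hab => ?_, fun a he => hAB a (he.trans (hB a).symm),
      fun he => (hone a₀).2 (Subtype.ext he), fun a he => (hone a).1 (Subtype.ext he), fun a => ?_⟩⟩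
    · by_contra hne
      exact ((pair a b hne).resolve_left fun h' => h'.2 ((hB a).trans (hB b).symm)).1 hab
    · rw [hτ a, hB a, Int.cast_neg, Int.cast_one, neg_one_smul, neg_sub]

namespace Exc

variable {e : Multiplicative (ZMod p) ≃* P} (D : Exc p P e) (h : SelfTwo p P t)

theorem eps_sq : (D.eps : ℂ) * D.eps = 1 := by rcases D.sign with s | s <;> simp [s]

/-- The characters not vanishing on `P`. -/
noncomputable def known : Option (Option (TwoP.halfSet p)) → IrrCharacter G
  | none => ⟨_, isIrrCharacter_one⟩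
  | some none => D.chi
  | some (some a) => D.psi a

theorem known_injective : Function.Injective (known D) := by
  rintro (_ | _ | a) (_ | _ | b) he <;> simp only [known] at he
  · rfl
  · exact absurd (congrArg Subtype.val he.symm) D.chi_ne_one
  · exact absurd (congrArg Subtype.val he.symm) (D.psi_ne_one b)
  · exact absurd (congrArg Subtype.val he) D.chi_ne_one
  · rfl
  · exact absurd he.symm (D.psi_ne_chi b)
  · exact absurd (congrArg Subtype.val he) (D.psi_ne_one a)
  · exact absurd he (D.psi_ne_chi a)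
  · rw [D.psi_inj he]

include h

theorem psi_off (a : TwoP.halfSet p) {g : G} (hg : orderOf g ≠ p) :
    (D.psi a : G → ℂ) g = (D.chi : G → ℂ) g + D.eps := by
  have hk := congrFun (D.tau_eq a) g
  rw [tauF_off h e a.1 hg, Pi.smul_apply, Pi.sub_apply, smul_eq_mul] at hk
  linear_combination (D.eps : ℂ) * hk + ((D.chi : G → ℂ) g - (D.psi a : G → ℂ) g) * (eps_sq D)

theorem psi_one (a : TwoP.halfSet p) : (D.psi a : G → ℂ) 1 = (D.chi : G → ℂ) 1 + D.eps :=
  psi_off D h a (by rw [orderOf_one]; exact hp.out.ne_one.symm)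

theorem psi_on_aux (a : TwoP.halfSet p) {u : P} (hu : u ≠ 1) :
    (D.psi a : G → ℂ) u = (D.chi : G → ℂ) u - D.eps * (1 - pairF e a.1 u) := by
  have hk := congrFun (D.tau_eq a) u
  rw [tauF_on h e a.1 hu, Pi.smul_apply, Pi.sub_apply, smul_eq_mul] at hk
  linear_combination (D.eps : ℂ) * hk + ((D.chi : G → ℂ) u - (D.psi a : G → ℂ) u) * (eps_sq D)

theorem column (u : P) (hu : u ≠ 1) :
    (D.chi : G → ℂ) u = D.eps ∧
      ∀ ξ : IrrCharacter G, ξ ∉ Set.range (known D) → (ξ : G → ℂ) u = 0 := by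
  classical
  have := Fintype.ofFinite (IrrCharacter G)
  have h1 : (u : G) ≠ 1 := fun h' => hu (Subtype.ext h')
  have htot := sum_irr_mul_conj (u : G) (u : G)
  rw [if_pos (IsConj.refl _), h.cent u u.2 h1, h.card] at htot
  let T : Finset (IrrCharacter G) := Finset.univ.image (known D)
  obtain ⟨w, hw⟩ : ∃ w : ℂ, (D.chi : G → ℂ) u = D.eps + w := ⟨(D.chi : G → ℂ) u - D.eps, by ring⟩
  have hce : conj (D.eps : ℂ) = D.eps := map_intCast _ _
  have hT : ∑ ψ ∈ T, (ψ : G → ℂ) u * conj ((ψ : G → ℂ) u) =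
      (p : ℂ) + (((TwoP.halfSet p).card : ℂ) + 1) * (w * conj w) := by
    rw [Finset.sum_image fun x _ y _ h' => known_injective D h', Fintype.sum_option, Fintype.sum_option]
    simp only [known, psi_on_aux D h _ hu, hw, map_sub, map_add, map_one, map_mul, hce, conj_pairF]
    rw [Finset.sum_coe_sort (TwoP.halfSet p) (fun a => ((D.eps : ℂ) + w - D.eps * (1 - pairF e a u)) *
      (D.eps + conj w - D.eps * (1 - pairF e a u)))]
    rw [Finset.sum_congr rfl (g := fun a => pairF e a u * pairF e a u +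
      (((D.eps : ℂ) * (w + conj w)) * pairF e a u + w * conj w)) fun a _ => by
        linear_combination (pairF e a u * pairF e a u) * (eps_sq D),
      Finset.sum_add_distrib, Finset.sum_add_distrib, ← Finset.mul_sum, sum_pairF_sq e h.p_ne_two hu,
      sum_pairF e h.p_ne_two hu, Finset.sum_const, nsmul_eq_mul]
    linear_combination (eps_sq D)
  have hrest : ∑ ψ ∈ Finset.univ \ T, (ψ : G → ℂ) u * conj ((ψ : G → ℂ) u) +
      (((TwoP.halfSet p).card : ℂ) + 1) * (w * conj w) = 0 := by
    have := Finset.sum_sdiff (f := fun ψ : IrrCharacter G => (ψ : G → ℂ) u * conj ((ψ : G → ℂ) u))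
      (Finset.subset_univ T)
    rw [htot, hT] at this
    linear_combination this
  have hr : ∑ ψ ∈ Finset.univ \ T, ‖(ψ : G → ℂ) u‖ ^ 2 + (((TwoP.halfSet p).card : ℝ) + 1) * ‖w‖ ^ 2 = 0 := by
    have h' := congrArg Complex.re hrest
    simpa [Complex.mul_conj', ← Complex.ofReal_pow] using h'
  have hn1 : 0 ≤ ∑ ψ ∈ Finset.univ \ T, ‖(ψ : G → ℂ) u‖ ^ 2 := Finset.sum_nonneg fun i _ => by positivity
  have hn2 : 0 ≤ (((TwoP.halfSet p).card : ℝ) + 1) * ‖w‖ ^ 2 := by positivity
  refine ⟨?_, fun ξ hξ => ?_⟩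
  · have : ‖w‖ ^ 2 = 0 := by
      rcases mul_eq_zero.1 (show (((TwoP.halfSet p).card : ℝ) + 1) * ‖w‖ ^ 2 = 0 by linarith) with h' | h'
      · exact absurd h' (by positivity)
      · exact h'
    rw [hw, norm_eq_zero.1 (pow_eq_zero_iff two_ne_zero |>.1 this), add_zero]
  · have := (Finset.sum_eq_zero_iff_of_nonneg fun i _ => by positivity).1
      (show ∑ ψ ∈ Finset.univ \ T, ‖(ψ : G → ℂ) u‖ ^ 2 = 0 by linarith) ξ (by
      simp only [Finset.mem_sdiff, Finset.mem_univ, true_and, T, Finset.mem_image, not_exists]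
      exact fun i hi => hξ ⟨i, hi⟩)
    simpa using this

theorem chi_on {g : G} (hg : g ∈ P) (h1 : g ≠ 1) : (D.chi : G → ℂ) g = D.eps :=
  (column D h ⟨g, hg⟩ fun e' => h1 (congrArg Subtype.val e')).1

theorem psi_on (a : TwoP.halfSet p) {u : P} (hu : u ≠ 1) :
    (D.psi a : G → ℂ) u = D.eps * pairF e a.1 u := by
  rw [psi_on_aux D h a hu, (column D h u hu).1]; ring

/-- The class constants at an element of order `p`. -/
theorem classConst_eq {a b : G} (ha : orderOf a ≠ p) (hb : orderOf b ≠ p) {u : P} (hu : u ≠ 1) :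
    (classConst a b (u : G) : ℂ) * ((D.chi : G → ℂ) 1 * ((D.chi : G → ℂ) 1 + D.eps)) =
      (Nat.card {x : G // IsConj a x} : ℂ) * (Nat.card {x : G // IsConj b x} : ℂ) / (Nat.card G : ℂ) *
        (((D.chi : G → ℂ) 1 - (D.chi : G → ℂ) a) * ((D.chi : G → ℂ) 1 - (D.chi : G → ℂ) b)) := by
  classical
  have := Fintype.ofFinite (IrrCharacter G)
  rw [classConst_formula, finsum_eq_sum_of_fintype,
    ← Finset.sum_subset (Finset.subset_univ (Finset.univ.image (known D))) (fun ξ _ hξ => by
      rw [(column D h u hu).2 ξ (fun ⟨j, hj⟩ => hξ (Finset.mem_image.2 ⟨j, Finset.mem_univ j, hj⟩)),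
        map_zero, mul_zero, zero_div]),
    Finset.sum_image fun x _ y _ h' => known_injective D h', Fintype.sum_option, Fintype.sum_option]
  simp only [known, psi_off D h _ ha, psi_off D h _ hb, psi_one D h, psi_on D h _ hu, (column D h u hu).1,
    map_one, map_mul, map_intCast, conj_pairF, mul_one, div_one]
  rw [Finset.sum_coe_sort (TwoP.halfSet p) (fun c => ((D.chi : G → ℂ) a + D.eps) *
      ((D.chi : G → ℂ) b + D.eps) * (D.eps * pairF e c u) / ((D.chi : G → ℂ) 1 + D.eps)),
    ← Finset.sum_div, ← Finset.mul_sum, ← Finset.mul_sum, sum_pairF e h.p_ne_two hu]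
  have d1 : (D.chi : G → ℂ) 1 ≠ 0 := irr_one_ne_zero _
  obtain ⟨a₀, ha₀⟩ : ∃ a₀, (D.psi a₀ : G → ℂ) 1 = (D.chi : G → ℂ) 1 + D.eps := by
    obtain ⟨a₀⟩ : Nonempty (TwoP.halfSet p) := by
      by_contra hne
      rw [not_nonempty_iff] at hne
      have := sum_pairF e h.p_ne_two hu
      rw [← Finset.sum_coe_sort] at this
      simp at this
    exact ⟨a₀, psi_one D h a₀⟩
  have d2 : (D.chi : G → ℂ) 1 + D.eps ≠ 0 := ha₀ ▸ irr_one_ne_zero _
  have d3 : (Nat.card G : ℂ) ≠ 0 := card_ne_zero'
  field_simp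
  linear_combination ((D.chi : G → ℂ) a * (D.chi : G → ℂ) b -
    (D.chi : G → ℂ) 1 * ((D.chi : G → ℂ) a + (D.chi : G → ℂ) b + D.eps)) * (eps_sq D)

end Exc

end CfsgLib.Perm.ThreeP
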