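import Cfsg.Agent.Lib.Perm.ThreeP.Decomp
import Cfsg.Agent.Lib.Bender.Suzuki.Classified
import Cfsg.Agent.Lib.Invol.StronglyEmbedded
import Cfsg.Agent.Lib.Invol.SmallSimple
import Cfsg.Agent.Lib.CIT.PrimeGraphPsl
import Cfsg.Agent.S0280

/-!
# A simple transitive group of degree `3p`: involutions do not fix a single point
-/

set_option autoImplicit false
set_option linter.unusedSectionVars false

namespace CfsgLib.Perm.ThreeP

open Cfsg CfsgLib.Char MulAction

universe u v

/-- Two-adic comparison in the class formula. -/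
theorem two_val_eq {N c p X Y : ℕ} (hp : Odd p) (hN : N ≠ 0) (hX : X ≠ 0) (hY : Y ≠ 0) (hc : c ≠ 0)
    (hval : c.factorization 2 = N.factorization 2) (h : N * X = p * c ^ 2 * Y) :
    X.factorization 2 = N.factorization 2 + Y.factorization 2 := by
  have hp0 : p ≠ 0 := fun e => by rw [e] at hp; exact absurd hp (by decide)
  have h1 := congrArg (fun n => n.factorization 2) h
  simp only [Nat.factorization_mul hN hX, Nat.factorization_mul (mul_ne_zero hp0 (pow_ne_zero 2 hc)) hY,
    Nat.factorization_mul hp0 (pow_ne_zero 2 hc), Nat.factorization_pow, Finsupp.coe_add, Pi.add_apply,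
    Finsupp.smul_apply, smul_eq_mul, hval,
    Nat.factorization_eq_zero_of_not_dvd (fun hd => Nat.not_even_iff_odd.2 hp (even_iff_two_dvd.2 hd))] at h1
  omega

variable {G : Type u} [Group G] [Fintype G] {p : ℕ} [hp : Fact p.Prime] {P : Subgroup G} {t : G}
  {e : Multiplicative (ZMod p) ≃* P}
  [IsSimpleGroup G] {Ω : Type v} [Fintype Ω] [MulAction G Ω] [FaithfulSMul G Ω] [IsPretransitive G Ω]

namespace Ctx

variable (h : Ctx p P t Ω) (D : Exc p P e)
include h D

omit [FaithfulSMul G Ω] [IsPretransitive G Ω] in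
/-- The centralizer of an involution contains a Sylow `2`-subgroup. -/
theorem val_cent :
    (Nat.card (Subgroup.centralizer ({t} : Set G))).factorization 2 = (Nat.card G).factorization 2 := by
  haveI : Fact (Nat.Prime 2) := ⟨Nat.prime_two⟩
  obtain ⟨S⟩ : Nonempty (Sylow 2 G) := inferInstance
  have h2 : 2 ∣ Nat.card G := h.self.orderOf_t ▸ orderOf_dvd_natCard t
  have hS := S.card_eq_multiplicity
  have h1 : 1 ≤ (Nat.card G).factorization 2 :=
    (Nat.prime_two.dvd_iff_one_le_factorization Nat.card_pos.ne').1 h2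
  haveI : Nontrivial (S : Subgroup G) := Finite.one_lt_card_iff_nontrivial.1 (by
    rw [hS]; exact one_lt_pow₀ one_lt_two (by omega))
  haveI := S.isPGroup'.center_nontrivial
  have hd : 2 ∣ Nat.card (Subgroup.center (S : Subgroup G)) :=
    (S.isPGroup'.to_subgroup _).card_eq_or_dvd.resolve_left (Finite.one_lt_card.ne')
  obtain ⟨z, hz⟩ := exists_prime_orderOf_dvd_card' 2 hd
  have hz' : orderOf ((z : (S : Subgroup G)) : G) = 2 := by rw [Subgroup.orderOf_coe, Subgroup.orderOf_coe, hz]
  have hle : (S : Subgroup G) ≤ Subgroup.centralizer ({((z : (S : Subgroup G)) : G)} : Set G) := fun x hx =>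
    Subgroup.mem_centralizer_singleton_iff.2 (congrArg Subtype.val (Subgroup.mem_center_iff.1 z.2 ⟨x, hx⟩))
  have hcard : Nat.card (Subgroup.centralizer ({((z : (S : Subgroup G)) : G)} : Set G)) =
      Nat.card (Subgroup.centralizer ({t} : Set G)) := by
    have e1 := Nat.card_congr (Equiv.refl {x : G // IsConj t x})
    have hi : Nat.card {x : G // IsConj ((z : (S : Subgroup G)) : G) x} = Nat.card {x : G // IsConj t x} :=
      Nat.card_congr (Equiv.subtypeEquivRight fun x =>
        ⟨fun hx => (h.one_class D hz').trans hx, fun hx => (h.one_class D hz').symm.trans hx⟩)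
    rw [card_isConj, card_isConj] at hi
    have a1 := Subgroup.card_mul_index (Subgroup.centralizer ({((z : (S : Subgroup G)) : G)} : Set G))
    rw [hi, ← Subgroup.card_mul_index (Subgroup.centralizer ({t} : Set G))] at a1
    exact Nat.eq_of_mul_eq_mul_right (Nat.pos_of_ne_zero Subgroup.FiniteIndex.index_ne_zero) a1
  have hd2 := Subgroup.card_dvd_of_le hle
  rw [hcard, hS] at hd2
  refine le_antisymm ?_ ((Nat.prime_two.pow_dvd_iff_le_factorization Nat.card_pos.ne').1 hd2)
  exact (Nat.factorization_le_iff_dvd Nat.card_pos.ne' Nat.card_pos.ne').2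
    (Subgroup.card_subgroup_dvd_card _) 2

/-- Two-adic value of the order from the class formula. -/
theorem val_of_formula {f a : ℕ} {X Y : ℕ} (hX : X ≠ 0) (hY : Y ≠ 0) (hf : (D.chi : G → ℂ) 1 = f)
    (hXe : ((f : ℂ) - (D.chi : G → ℂ) t) ^ 2 = (a : ℂ) * X) (hYe : (f : ℂ) * ((f : ℂ) + D.eps) = (a : ℂ) * Y)
    (ha : a ≠ 0) : X.factorization 2 = (Nat.card G).factorization 2 + Y.factorization 2 := by
  have hform := h.formula D
  rw [hf, hXe, hYe] at hform
  have hn : Nat.card G * X = p * Nat.card (Subgroup.centralizer ({t} : Set G)) ^ 2 * Y := by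
    have h' : ((Nat.card G * X : ℕ) : ℂ) =
        ((p * Nat.card (Subgroup.centralizer ({t} : Set G)) ^ 2 * Y : ℕ) : ℂ) := by
      refine mul_left_cancel₀ (Nat.cast_ne_zero.2 ha : (a : ℂ) ≠ 0) ?_
      push_cast
      linear_combination hform
    exact_mod_cast h'
  exact two_val_eq (hp.out.odd_of_ne_two h.self.p_ne_two) Nat.card_pos.ne' hX hY Nat.card_pos.ne'
    (h.val_cent D) hn

/-- The Sylow `2`-subgroups have order at least four. -/
theorem two_le_val : 2 ≤ (Nat.card G).factorization 2 := by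
  have h1 := CfsgLib.Invol.card_mod_four_ne_two h.nonab
  have h2 : 2 ∣ Nat.card G := h.self.orderOf_t ▸ orderOf_dvd_natCard t
  have h4 : 2 ^ 2 ∣ Nat.card G := by show 4 ∣ Nat.card G; omega
  exact (Nat.prime_two.pow_dvd_iff_le_factorization Nat.card_pos.ne').1 h4

/-- Involutions fix three points. -/
theorem fix_three :
    Nat.card {x : Ω // t • x = x} = 3 ∧ p % 4 = 1 := by
  classical
  refine h.fix_t.resolve_left fun ⟨hone, hp4⟩ => ?_
  have h5 := h.self.five
  have hh1 : ∀ s : G, orderOf s = 2 → ∃! x : Ω, s • x = x := fun s hs => by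
    have hc := h.fix_invol D hs
    rw [hone, Nat.card_eq_one_iff_unique] at hc
    obtain ⟨hsub, ⟨x, hx⟩⟩ := hc
    exact ⟨x, hx, fun y hy => congrArg Subtype.val (hsub.elim (⟨y, hy⟩ : {x : Ω // s • x = x}) ⟨x, hx⟩)⟩
  obtain ⟨a, hta, -⟩ := hh1 t h.self.orderOf_t
  set H := stabilizer G a with hHdef
  have hHtop : H ≠ ⊤ := by
    intro e'
    have := index_stabilizer_of_transitive G a
    rw [← hHdef, e', Subgroup.index_top, h.card] at this
    omega
  haveI : Fact (Nat.Prime 2) := ⟨Nat.prime_two⟩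
  have hev : Even (Nat.card H) := by
    rw [even_iff_two_dvd, ← h.self.orderOf_t]
    exact Subgroup.orderOf_dvd_natCard H hta
  have hH : Cfsg.IsStronglyEmbedded H := by
    refine (CfsgLib.Invol.stronglyEmbedded_iff hHtop hev).2 fun s hs hso g hg => ?_
    obtain ⟨x, -, hu⟩ := hh1 s hso
    have h1 : s • a = a := hs
    have h2 : s • g⁻¹ • a = g⁻¹ • a := by
      have hg' : (g * s * g⁻¹) • a = a := hg
      rw [mul_smul, mul_smul] at hg'
      exact eq_inv_smul_iff.2 hg'
    have h3 : g⁻¹ • a = a := (hu _ h2).trans (hu _ h1).symm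
    exact mem_stabilizer_iff.2 (inv_smul_eq_iff.1 h3).symm
  have hcore : H.normalCore = ⊥ := by
    rcases (inferInstance : H.normalCore.Normal).eq_bot_or_eq_top with h' | h'
    · exact h'
    · exact absurd (top_le_iff.1 (h' ▸ H.normalCore_le)) hHtop
  obtain ⟨Q, hQH, hQn, hQ2, hreg⟩ := CfsgLib.Bender.Full.fullStatement G H hH hcore
    (CfsgLib.Bender.Full.hasPair_of_simple hH)
  obtain ⟨g₀, hg₀⟩ : ∃ g : G, g ∉ H := by
    by_contra hc
    push Not at hc
    exact hHtop (eq_top_iff.2 fun x _ => hc x)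
  have hne : ∀ k : G, k • a ≠ a ↔ k ∉ H := fun k => Iff.rfl
  have hsol : ∀ k : G, k ∉ H → ∃! x : G, x ∈ Q ∧ x • g₀ • a = k • a := by
    intro k hk
    obtain ⟨x, ⟨hxQ, hx⟩, hu⟩ := hreg g₀ k hg₀ hk
    have key : ∀ y : G, k⁻¹ * (y * g₀) ∈ H ↔ y • g₀ • a = k • a := fun y => by
      rw [hHdef, mem_stabilizer_iff, mul_smul, mul_smul, inv_smul_eq_iff]
    exact ⟨x, ⟨hxQ, (key x).1 hx⟩, fun y hy => hu y ⟨hy.1, (key y).2 hy.2⟩⟩
  have hQcard : Nat.card Q + 1 = 3 * p := by
    have hb : Nat.card Q = Nat.card {y : Ω // y ≠ a} := by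
      refine Nat.card_eq_of_bijective (fun x : Q => (⟨(x : G) • g₀ • a, fun e' => ?_⟩ : {y : Ω // y ≠ a})) ⟨?_, ?_⟩
      · have h1 : (x : G) • a = a := hQH x.2
        exact (hne g₀).2 hg₀ (MulAction.injective (x : G) (e'.trans h1.symm))
      · intro x y exy
        have e' : (x : G) • g₀ • a = (y : G) • g₀ • a := congrArg Subtype.val exy
        have hk : (y : G) * g₀ ∉ H := fun hm => hg₀ ((H.mul_mem_cancel_left (hQH y.2)).1 hm)
        obtain ⟨z, -, hu⟩ := hsol _ hk
        exact Subtype.ext ((hu x ⟨x.2, e'.trans (mul_smul _ _ _).symm⟩).trans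
          (hu y ⟨y.2, (mul_smul _ _ _).symm⟩).symm)
      · rintro ⟨y, hy⟩
        obtain ⟨k, rfl⟩ := MulAction.exists_smul_eq G a y
        obtain ⟨x, ⟨hxQ, hx⟩, -⟩ := hsol k ((hne k).1 hy)
        exact ⟨⟨x, hxQ⟩, Subtype.ext hx⟩
    rw [hb, Nat.card_eq_fintype_card, Fintype.card_subtype_compl, Fintype.card_subtype_eq,
      ← Nat.card_eq_fintype_card, h.card]
    omega
  obtain ⟨n, hn⟩ := IsPGroup.iff_card.1 hQ2
  have hdvdQ : 2 ^ n ∣ Nat.card G := hn ▸ Subgroup.card_subgroup_dvd_card Q
  have hn_le : n ≤ (Nat.card G).factorization 2 :=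
    (Nat.prime_two.pow_dvd_iff_le_factorization Nat.card_pos.ne').1 hdvdQ
  have hπt : permChar G Ω t = 1 := by rw [h.perm_eq, hone, Nat.cast_one]
  have htp : orderOf t ≠ p := by rw [h.self.orderOf_t]; exact fun e' => h.self.p_ne_two e'.symm
  have h2v := h.two_le_val D
  obtain ⟨f, hf, hcases⟩ := h.cases D
  rcases hcases with ⟨s, rfl⟩ | ⟨s, rfl, θ, -, -, hθ1, hθu, hπ⟩ | ⟨s, rfl, hπ⟩ | ⟨-, hp5, -⟩
  · -- degree `p - 1`
    obtain ⟨m, n', hmn, ha⟩ := value_t h.self (isCharacter_irr D.chi) (c0 := -1) (k := 0)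
      (fun u hu h1 => by rw [D.chi_on h.self hu h1, s, Int.cast_neg, Int.cast_one])
      (by rw [hf, Nat.cast_sub hp.out.one_le]; push_cast; ring)
    have hm : m = 0 ∧ n' = 0 := by omega
    rw [hm.1, hm.2, Nat.cast_zero, sub_zero] at ha
    have hv := h.val_of_formula D (f := p - 1) (a := p - 1) (X := p - 1) (Y := p - 2) (by omega) (by omega) hf
      (by rw [ha, sub_zero, _root_.sq])
      (by rw [s, Nat.cast_sub hp.out.one_le, Nat.cast_sub hp.out.two_le]; push_cast; ring) (by omega)
    have hlt : (p - 1).factorization 2 < 2 := by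
      by_contra hc
      have hd : 2 ^ 2 ∣ p - 1 :=
        (Nat.prime_two.pow_dvd_iff_le_factorization (by omega : p - 1 ≠ 0)).2 (not_lt.1 hc)
      norm_num at hd
      omega
    omega
  · -- degree `2p - 1`
    obtain ⟨m, n', hmn, ha⟩ := value_t h.self (isCharacter_irr D.chi) (c0 := -1) (k := 1)
      (fun u hu h1 => by rw [D.chi_on h.self hu h1, s, Int.cast_neg, Int.cast_one])
      (by rw [hf, Nat.cast_sub (by omega : 1 ≤ 2 * p)]; push_cast; ring)
    rcases (by omega : (m = 0 ∧ n' = 1) ∨ (m = 1 ∧ n' = 0)) with hm | hm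
    · rw [hm.1, hm.2, Nat.cast_one, Nat.cast_zero, zero_sub] at ha
      have hv := h.val_of_formula D (f := 2 * p - 1) (a := 2) (X := 2 * p ^ 2) (Y := (2 * p - 1) * (p - 1))
        (by have := hp.out.pos; positivity) (mul_ne_zero (by omega) (by omega)) hf
        (by rw [ha, Nat.cast_sub (by omega : 1 ≤ 2 * p)]; push_cast; ring)
        (by rw [s, Nat.cast_mul, Nat.cast_sub hp.out.one_le, Nat.cast_sub (by omega : 1 ≤ 2 * p)]; push_cast; ring)
        two_ne_zero
      have hlt : (2 * p ^ 2).factorization 2 < 2 := by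
        by_contra hc
        have hd : 2 ^ 2 ∣ 2 * p ^ 2 := (Nat.prime_two.pow_dvd_iff_le_factorization
          (by have := hp.out.pos; positivity)).2 (not_lt.1 hc)
        have h4 : 2 ∣ p := Nat.prime_two.dvd_of_dvd_pow (n := 2) (by
          obtain ⟨j, hj⟩ := hd
          exact ⟨j, by omega⟩)
        omega
      omega
    · rw [hm.1, hm.2, Nat.cast_one, Nat.cast_zero, sub_zero] at ha
      have hv := h.val_of_formula D (f := 2 * p - 1) (a := 2 * (p - 1)) (X := 2 * (p - 1)) (Y := 2 * p - 1)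
        (by omega) (by omega) hf
        (by rw [ha]; push_cast [Nat.cast_sub hp.out.one_le, Nat.cast_sub (by omega : 1 ≤ 2 * p)]; ring)
        (by rw [s]; push_cast [Nat.cast_sub hp.out.one_le, Nat.cast_sub (by omega : 1 ≤ 2 * p)]; ring)
        (by omega)
      have hlt : (2 * (p - 1)).factorization 2 < 3 := by
        by_contra hc
        have hd : 2 ^ 3 ∣ 2 * (p - 1) :=
          (Nat.prime_two.pow_dvd_iff_le_factorization (by omega : 2 * (p - 1) ≠ 0)).2 (not_lt.1 hc)
        norm_num at hd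
        omega
      have hp8 : n ≤ 2 := by omega
      have hle : 2 ^ n ≤ 2 ^ 2 := Nat.pow_le_pow_right two_pos hp8
      rw [hn] at hQcard
      omega
  · -- degree `3p - 1`
    have ha : (D.chi : G → ℂ) t = 0 := by
      have := hπ t
      rw [hπt] at this
      linear_combination -this
    have hq : 2 ^ n = 3 * p - 1 := by rw [← hn]; omega
    have hform := h.formula D
    rw [hf, ha, s, sub_zero] at hform
    set c := Nat.card (Subgroup.centralizer ({t} : Set G)) with hcdef
    have hform' : Nat.card G * (3 * p - 1) = p * c ^ 2 * (3 * p - 2) := by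
      have h' : ((Nat.card G * (3 * p - 1) : ℕ) : ℂ) = ((p * c ^ 2 * (3 * p - 2) : ℕ) : ℂ) := by
        have h3 : (((3 * p - 1 : ℕ)) : ℂ) ≠ 0 := Nat.cast_ne_zero.2 (by omega)
        rw [Nat.cast_mul, Nat.cast_mul, Nat.cast_mul, Nat.cast_pow]
        have e2 : (((3 * p - 2 : ℕ)) : ℂ) = ((3 * p - 1 : ℕ) : ℂ) - 1 := by
          rw [Nat.cast_sub (by omega : 2 ≤ 3 * p), Nat.cast_sub (by omega : 1 ≤ 3 * p)]; push_cast; ring
        rw [e2]
        refine mul_left_cancel₀ h3 ?_
        push_cast at hform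
        linear_combination hform
      exact_mod_cast h'
    have hval := two_val_eq (hp.out.odd_of_ne_two h.self.p_ne_two) Nat.card_pos.ne' (by omega) (by omega)
      Nat.card_pos.ne' (h.val_cent D) hform'
    have hnval : n = (Nat.card G).factorization 2 := by
      rw [← hq, Nat.prime_two.factorization_pow, Finsupp.single_eq_same,
        Nat.factorization_eq_zero_of_not_dvd (show ¬ 2 ∣ 3 * p - 2 by omega)] at hval
      omega
    have hinQ : ∀ s' : G, orderOf s' = 2 → s' • a = a → s' ∈ Q := by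
      intro s' hso hsa
      have hsN : s' ∈ Subgroup.normalizer (Q : Set G) := hQn hsa
      have hz : IsPGroup 2 (Subgroup.zpowers s') := IsPGroup.of_card (n := 1) (by rw [Nat.card_zpowers, hso, pow_one])
      have hle : Subgroup.zpowers s' ≤ Subgroup.normalizer (Q : Set G) := Subgroup.zpowers_le.2 hsN
      have hsup : IsPGroup 2 (Subgroup.zpowers s' ⊔ Q : Subgroup G) := hz.to_sup_of_normal_right' hQ2 hle
      obtain ⟨j, hj⟩ := IsPGroup.iff_card.1 hsup
      have hjle : j ≤ n := hnval ▸ (Nat.prime_two.pow_dvd_iff_le_factorization Nat.card_pos.ne').1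
        (hj ▸ Subgroup.card_subgroup_dvd_card _)
      have heq : (Subgroup.zpowers s' ⊔ Q : Subgroup G) = Q := (Subgroup.eq_of_le_of_card_ge le_sup_right (by
        rw [hj, hn]; exact Nat.pow_le_pow_right two_pos hjle)).symm
      exact heq ▸ (le_sup_left : Subgroup.zpowers s' ≤ _) (Subgroup.mem_zpowers s')
    let I := fun x : Ω => {s' : G // orderOf s' = 2 ∧ s' • x = x}
    have hI : ∀ x, Nat.card (I x) = Nat.card (I a) := by
      intro x
      obtain ⟨g, rfl⟩ := MulAction.exists_smul_eq G a x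
      refine (Nat.card_congr ((MulAut.conj g).toEquiv.subtypeEquiv fun s' => ?_)).symm
      simp only [MulEquiv.toEquiv_eq_coe, MulEquiv.coe_toEquiv, MulEquiv.orderOf_eq]
      rw [MulAut.conj_apply, mul_smul, mul_smul, inv_smul_smul, smul_left_cancel_iff]
    have hidx : (Subgroup.centralizer ({t} : Set G)).index = 3 * p * Nat.card (I a) := by
      rw [← card_isConj]
      calc Nat.card {x : G // IsConj t x} = Nat.card (Σ x : Ω, I x) := ?_
        _ = ∑ x : Ω, Nat.card (I x) := Nat.card_sigma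
        _ = 3 * p * Nat.card (I a) := by
          rw [Finset.sum_congr rfl fun x _ => hI x, Finset.sum_const, Finset.card_univ, smul_eq_mul,
            ← Nat.card_eq_fintype_card, h.card]
      refine (Nat.card_eq_of_bijective (fun q : Σ x : Ω, I x => (⟨q.2.1, h.one_class D q.2.2.1⟩ : {x : G // IsConj t x}))
        ⟨?_, ?_⟩).symm
      · rintro ⟨x, s', hso, hsx⟩ ⟨y, s'', hso', hsy⟩ exy
        have e' : s' = s'' := congrArg Subtype.val exy
        subst e'
        obtain rfl : x = y := (hh1 s' hso).unique hsx hsy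
        rfl
      · rintro ⟨s', hs'⟩
        have hso : orderOf s' = 2 := by
          obtain ⟨k, rfl⟩ := isConj_iff.1 hs'
          rw [show k * t * k⁻¹ = MulAut.conj k t by simp [MulAut.conj_apply], MulEquiv.orderOf_eq, h.self.orderOf_t]
        obtain ⟨x, hx, -⟩ := hh1 s' hso
        exact ⟨⟨x, s', hso, hx⟩, rfl⟩
    have hile : Nat.card (I a) + 1 ≤ 2 ^ n := by
      have hinj : Nat.card (I a) ≤ Nat.card {x : Q // x ≠ 1} :=
        Nat.card_le_card_of_injective (fun s' : I a => (⟨⟨s'.1, hinQ _ s'.2.1 s'.2.2⟩, fun e' => by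
          have h1 : s'.1 = 1 := congrArg Subtype.val e'
          have h2 := s'.2.1
          rw [h1, orderOf_one] at h2
          omega⟩ : {x : Q // x ≠ 1})) fun x y exy => Subtype.ext (congrArg (fun z => (z.1 : G)) exy)
      rw [Nat.card_eq_fintype_card (α := {x : Q // x ≠ 1}), Fintype.card_subtype_compl, Fintype.card_subtype_eq,
        ← Nat.card_eq_fintype_card, hn] at hinj
      have := Nat.one_le_two_pow (n := n)
      omega
    have hG := Subgroup.card_mul_index (Subgroup.centralizer ({t} : Set G))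
    rw [hidx, ← hcdef] at hG
    have hmain : 3 * Nat.card (I a) * 2 ^ n = c * (2 ^ n - 1) := by
      rw [← hG, show 3 * p - 2 = 2 ^ n - 1 by omega, ← hq] at hform'
      have hc0 : 0 < c := Nat.card_pos
      refine Nat.eq_of_mul_eq_mul_left (Nat.mul_pos hp.out.pos hc0) ?_
      linear_combination hform'
    have hcop : Nat.Coprime (2 ^ n) (2 ^ n - 1) :=
      (Nat.coprime_self_sub_right Nat.one_le_two_pow).2 (Nat.coprime_one_right _)
    obtain ⟨k, hk⟩ : 2 ^ n ∣ c := hcop.dvd_of_dvd_mul_right ⟨3 * Nat.card (I a), by linear_combination -hmain⟩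
    have hki : 3 * Nat.card (I a) = k * (2 ^ n - 1) := by
      rw [hk] at hmain
      exact Nat.eq_of_mul_eq_mul_left (Nat.two_pow_pos n) (by linear_combination hmain)
    have hk3 : k = 3 := by
      have h3k : 3 ∣ k := by
        refine (Nat.prime_three.dvd_mul.1 ⟨Nat.card (I a), hki.symm⟩).resolve_right fun hd => ?_
        omega
      have hk0 : k ≠ 0 := fun e' => by
        rw [e', mul_zero] at hk
        exact absurd hk Nat.card_pos.ne'
      by_contra hne'
      have h6 : 6 * (2 ^ n - 1) ≤ k * (2 ^ n - 1) := Nat.mul_le_mul_right _ (by omega)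
      omega
    subst hk3
    have hcardG : Nat.card G = 2 ^ n * (2 ^ n + 1) * (2 ^ n - 1) * 3 := by
      have hi : Nat.card (I a) = 2 ^ n - 1 := by omega
      rw [← hG, hk, hi, show 2 ^ n + 1 = 3 * p by omega]
      ring
    rcases CfsgLib.Bender.Suzuki.families_of_se CfsgLib.Bender.Suzuki.classified hH with
      ⟨F, i1, i2, ⟨r, hr, hF⟩, ⟨g⟩⟩ | ⟨-, r, -, hsz⟩ | ⟨F, i1, i2, r, hr, hF, ⟨g⟩⟩
    · have hc' := (Nat.card_congr g.toEquiv).trans (CfsgLib.CIT.card_psl_two_pow (by omega) hF)
      have hv : n = r := by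
        rw [hnval, hc', Nat.factorization_mul (Nat.two_pow_pos r).ne' (by
          have : 2 ^ 1 ≤ 2 ^ (2 * r) := Nat.pow_le_pow_right two_pos (by omega)
          omega), Finsupp.coe_add, Pi.add_apply, Nat.prime_two.factorization_pow, Finsupp.single_eq_same,
          Nat.factorization_eq_zero_of_not_dvd (show ¬ 2 ∣ 2 ^ (2 * r) - 1 by
            have : 2 ∣ 2 ^ (2 * r) := dvd_pow_self 2 (by omega)
            have := Nat.one_le_two_pow (n := 2 * r)
            omega), add_zero]
      subst hv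
      rw [hcardG, pow_mul', show (2 ^ n) ^ 2 - 1 = (2 ^ n + 1) * (2 ^ n - 1) by
        rw [← Nat.sq_sub_sq, one_pow], ← mul_assoc] at hc'
      have hpos : 0 < 2 ^ n * (2 ^ n + 1) * (2 ^ n - 1) :=
        Nat.mul_pos (Nat.mul_pos (Nat.two_pow_pos n) (by omega)) (by omega)
      omega
    · have h3 : 3 ∣ Nat.card G := ⟨2 ^ n * (2 ^ n + 1) * (2 ^ n - 1), by rw [hcardG]; ring⟩
      rw [hsz] at h3
      have hqm : (2 ^ (2 * r + 1)) % 3 = 2 := by
        rw [Nat.pow_mod, pow_succ, pow_mul]; simp [Nat.mul_mod, Nat.pow_mod]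
      rcases Nat.prime_three.dvd_mul.1 h3 with h3 | h3
      · rcases Nat.prime_three.dvd_mul.1 h3 with h3 | h3
        · have := Nat.prime_three.dvd_of_dvd_pow (Nat.prime_three.dvd_of_dvd_pow h3)
          norm_num at this
        · rw [Nat.dvd_iff_mod_eq_zero, Nat.add_mod, Nat.pow_mod, hqm] at h3
          norm_num at h3
      · have := Nat.one_le_two_pow (n := 2 * r + 1)
        omega
    · have hc' := Cfsg.Agent.S0280.result (F := F) hF 3 (by norm_num)
      rw [← Nat.card_congr g.toEquiv, hcardG] at hc'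
      simp only [Finset.prod_range_succ, Finset.prod_range_zero, one_mul, Even.zero, if_true,
        show Even 2 from even_two, if_neg (show ¬ Even 1 by decide)] at hc'
      norm_num at hc'
      set d := Nat.gcd 3 (2 ^ r + 1) with hd
      have hd0 : 1 ≤ d := Nat.gcd_pos_of_pos_left _ (by norm_num)
      have hr4 : 4 ≤ 2 ^ r := Nat.pow_le_pow_right two_pos hr |>.trans' (by norm_num)
      have hsq : 2 ^ r * 2 ^ r ≥ 1 := Nat.one_le_iff_ne_zero.2 (mul_ne_zero (by omega) (by omega))
      have h3q : n = 3 * r := by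
        have hv := congrArg (fun m : ℕ => m.factorization 2) hc'
        have hdo : ¬ 2 ∣ d := fun hh => by
          have := hh.trans (Nat.gcd_dvd_left 3 (2 ^ r + 1))
          norm_num at this
        have h2r : 2 ∣ 2 ^ r := dvd_pow_self 2 (by omega)
        have h2n : 2 ∣ 2 ^ n := dvd_pow_self 2 (by omega)
        have o1 : ¬ 2 ∣ d * ((2 ^ r + 1) * ((2 ^ n + 1) * (2 ^ n - 1) * 3)) := fun hh => by
          rcases Nat.prime_two.dvd_mul.1 hh with h' | h'
          · exact hdo h'
          rcases Nat.prime_two.dvd_mul.1 h' with h' | h'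
          · omega
          rcases Nat.prime_two.dvd_mul.1 h' with h' | h'
          · rcases Nat.prime_two.dvd_mul.1 h' with h' | h' <;> omega
          · omega
        have o2 : ¬ 2 ∣ (2 ^ r + 1) * ((2 ^ r) ^ 2 - 1) * ((2 ^ r) ^ 3 + 1) := fun hh => by
          have h22 : 2 ∣ (2 ^ r) ^ 2 := dvd_pow h2r (by norm_num)
          have h23 : 2 ∣ (2 ^ r) ^ 3 := dvd_pow h2r (by norm_num)
          have : 1 ≤ (2 ^ r) ^ 2 := Nat.one_le_pow _ _ (by omega)
          rcases Nat.prime_two.dvd_mul.1 hh with h' | h'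
          · rcases Nat.prime_two.dvd_mul.1 h' with h' | h' <;> omega
          · omega
        have e1 : d * ((2 ^ r + 1) * (2 ^ n * (2 ^ n + 1) * (2 ^ n - 1) * 3)) =
            2 ^ n * (d * ((2 ^ r + 1) * ((2 ^ n + 1) * (2 ^ n - 1) * 3))) := by ring
        simp only [e1] at hv
        rw [Nat.factorization_mul (Nat.two_pow_pos n).ne' (fun h0 => o1 (by rw [h0]; exact dvd_zero 2)),
          Nat.factorization_mul (pow_ne_zero 3 (by omega)) (fun h0 => o2 (by rw [h0]; exact dvd_zero 2)),
          Finsupp.coe_add, Pi.add_apply, Finsupp.coe_add, Pi.add_apply, Nat.factorization_eq_zero_of_not_dvd o1,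
          Nat.factorization_eq_zero_of_not_dvd o2, ← pow_mul,
          Nat.prime_two.factorization_pow, Nat.prime_two.factorization_pow, Finsupp.single_eq_same,
          Finsupp.single_eq_same] at hv
        omega
      subst h3q
      rw [show 2 ^ (3 * r) = (2 ^ r) ^ 3 by rw [← pow_mul, mul_comm]] at hc'
      clear g
      generalize 2 ^ r = x at *
      have hx3 : x * x ≤ x ^ 3 := by nlinarith
      have hA : 0 < x ^ 3 * (x + 1) * (x ^ 3 + 1) :=
        Nat.mul_pos (Nat.mul_pos (pow_pos (by omega) 3) (by omega)) (by omega)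
      have hkey : 3 * d * (x ^ 3 - 1) = x ^ 2 - 1 := Nat.eq_of_mul_eq_mul_left hA (by linear_combination hc')
      have h3d : 3 * (x ^ 3 - 1) ≤ 3 * d * (x ^ 3 - 1) := Nat.mul_le_mul_right _ (by omega)
      have : x ^ 2 = x * x := by ring
      have h64 : 4 ^ 3 ≤ x ^ 3 := Nat.pow_le_pow_left hr4 3
      norm_num at h64
      omega
  · omega

end Ctx

end CfsgLib.Perm.ThreeP
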