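import Cfsg.Agent.Lib.Perm.ThreeP.Setup
import Cfsg.Agent.Lib.Char.Linear

/-!
# A simple transitive group of degree `3p`: one class of involutions and the class formula
-/

set_option autoImplicit false
set_option linter.unusedSectionVars false

namespace CfsgLib.Perm.ThreeP

open Cfsg CfsgLib.Char MulAction
open scoped ComplexConjugate

universe u v

variable {G : Type u} [Group G] [Fintype G] {p : ℕ} [hp : Fact p.Prime] {P : Subgroup G} {t : G}

/-- The values at `t` of a character constant on `P#`. -/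
theorem value_t (h : SelfTwo p P t) {ξ : G → ℂ} (hξ : IsCharacter G ξ) {c0 : ℂ} {k : ℕ}
    (hc : ∀ u ∈ P, u ≠ (1 : G) → ξ u = c0) (hk : ξ 1 + ((p : ℂ) - 1) * c0 = (p : ℂ) * k) :
    ∃ m n : ℕ, m + n = k ∧ ξ t = (m : ℂ) - n := by
  classical
  have htN : t ∈ Subgroup.normalizer (P : Set G) := by
    refine Subgroup.mem_normalizer_iff.2 fun w => ⟨fun hw => by rw [h.t_inv w hw]; exact inv_mem hw,
      fun hw => ?_⟩
    have ht : t⁻¹ = t := inv_eq_of_mul_eq_one_right h.t_mul
    have e : t * (t * w * t⁻¹) * t⁻¹ = w := by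
      rw [ht]
      calc t * (t * w * t) * t = (t * t) * w * (t * t) := by simp only [mul_assoc]
        _ = w := by rw [h.t_mul, one_mul, mul_one]
    rw [← e, h.t_inv _ hw]
    exact inv_mem hw
  set N := Subgroup.normalizer (P : Set G) with hN
  haveI : Fintype N := Fintype.ofFinite _
  haveI : Fintype P := Fintype.ofFinite _
  let eq : P × Bool ≃ N := Equiv.ofBijective
    (fun q : P × Bool => (⟨if q.2 then (q.1 : G) * t else q.1, by
      split_ifs
      · exact mul_mem (Subgroup.le_normalizer q.1.2) htN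
      · exact Subgroup.le_normalizer q.1.2⟩ : N))
    ⟨by
      rintro ⟨v, b⟩ ⟨w, b'⟩ e
      have e' := congrArg Subtype.val e
      rcases Bool.eq_false_or_eq_true b with rfl | rfl <;>
        rcases Bool.eq_false_or_eq_true b' with rfl | rfl <;> simp at e'
      · rw [e']
      · exact absurd (e' ▸ w.2 : (v : G) * t ∈ P) fun hm => h.t_not ((P.mul_mem_cancel_left v.2).1 hm)
      · exact absurd (e'.symm ▸ v.2 : (w : G) * t ∈ P) fun hm => h.t_not ((P.mul_mem_cancel_left w.2).1 hm)
      · rw [e'],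
    fun x => by
      rcases h.norm x x.2 with hx | hx
      · exact ⟨(⟨x, hx⟩, false), Subtype.ext (by simp)⟩
      · exact ⟨(⟨(x : G) * t, hx⟩, true), Subtype.ext (by simp [mul_assoc, h.t_mul])⟩⟩
  have hidx : (P.subgroupOf N).index = 2 := by
    have h1 := (P.subgroupOf N).card_mul_index
    rw [Nat.card_congr (Subgroup.subgroupOfEquivOfLe Subgroup.le_normalizer).toEquiv,
      ← Nat.card_congr eq, Nat.card_prod, Nat.card_eq_fintype_card (α := Bool), Fintype.card_bool] at h1
    exact Nat.eq_of_mul_eq_mul_left Nat.card_pos h1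
  let sgn : N →* ℂˣ :=
    { toFun := fun x => if (x : G) ∈ P then 1 else -1
      map_one' := by simp
      map_mul' := fun x y => by
        have h1 := Subgroup.mul_mem_iff_of_index_two hidx (a := x) (b := y)
        simp only [Subgroup.mem_subgroupOf, Subgroup.coe_mul] at h1
        by_cases hx : (x : G) ∈ P <;> by_cases hy : (y : G) ∈ P <;> simp [hx, hy, h1] }
  have heq0 : ∀ v : P, ((eq (v, false) : N) : G) = v := fun v => rfl
  have heq1 : ∀ v : P, ((eq (v, true) : N) : G) = (v : G) * t := fun v => rfl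
  have hres : IsCharacter N (fun x : N => ξ x) := isCharacter_comp hξ N.subtype
  obtain ⟨m, hm⟩ := classInner_isCharacter hres (isCharacter_of_isIrr (isIrrCharacter_one (G := N)))
  obtain ⟨n, hn⟩ := classInner_isCharacter hres (isCharacter_of_isIrr (isIrrCharacter_lin sgn))
  have hcard : (Nat.card N : ℂ) = 2 * p := by
    rw [← Nat.card_congr eq, Nat.card_prod, h.card]
    simp [mul_comm]
  have hsum : ∀ F : N → ℂ, ∑ x : N, F x = ∑ v : P, (F (eq (v, false)) + F (eq (v, true))) := fun F => by
    rw [← Equiv.sum_comp eq, Fintype.sum_prod_type]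
    exact Finset.sum_congr rfl fun v _ => by rw [Fintype.sum_bool, add_comm]
  have hP : ∑ v : P, ξ v = ξ 1 + ((p : ℂ) - 1) * c0 := by
    rw [← Finset.add_sum_erase _ _ (Finset.mem_univ (1 : P)),
      Finset.sum_congr rfl (g := fun _ : P => c0) fun (v : P) hv => hc v v.2 fun e =>
        (Finset.mem_erase.1 hv).1 (Subtype.ext e),
      Finset.sum_const, Finset.card_erase_of_mem (Finset.mem_univ _), Finset.card_univ,
      ← Nat.card_eq_fintype_card, h.card, nsmul_eq_mul, Nat.cast_sub hp.out.one_le, Nat.cast_one,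
      OneMemClass.coe_one]
  have hPt : ∀ v : P, ξ ((v : G) * t) = ξ t := fun v => by
    obtain ⟨j, hj⟩ := hp.out.odd_of_ne_two h.p_ne_two
    have hw : (v : G) ^ (j + 1) ∈ P := pow_mem v.2 _
    have e1 : t * ((v : G) ^ (j + 1))⁻¹ = (v : G) ^ (j + 1) * t := by
      have := h.t_inv _ (inv_mem hw)
      rw [inv_inv, mul_inv_eq_iff_eq_mul] at this
      exact this
    refine (classFun_isConj (isClassFunction_of_isCharacter hξ) (isConj_iff.2 ⟨(v : G) ^ (j + 1), ?_⟩)).symm
    rw [mul_assoc, e1, ← mul_assoc, ← pow_add, show j + 1 + (j + 1) = 2 * j + 1 + 1 by omega, ← hj, pow_succ,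
      show (v : G) ^ p = 1 by rw [← h.card]; exact congrArg Subtype.val (pow_card_eq_one' (x := v)), one_mul]
  have hsv : ∀ v : P, ((sgn (eq (v, false)) : ℂˣ) : ℂ) = 1 ∧ ((sgn (eq (v, true)) : ℂˣ) : ℂ) = -1 := fun v => by
    have hm' : (v : G) * t ∉ P := fun hm => h.t_not ((P.mul_mem_cancel_left v.2).1 hm)
    constructor <;> simp [sgn, heq0, heq1, v.2, hm']
  have hpne : (p : ℂ) ≠ 0 := Nat.cast_ne_zero.2 hp.out.ne_zero
  have hm' : (2 * (p : ℂ)) * m = (p : ℂ) * k + p * ξ t := by
    rw [← hm, classInner, hcard, ← mul_assoc, mul_inv_cancel₀ (mul_ne_zero two_ne_zero hpne), one_mul, hsum]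
    simp only [map_one, mul_one, Finset.sum_add_distrib]
    rw [show ∑ v : P, ξ (eq (v, false) : G) = ∑ v : P, ξ v from Finset.sum_congr rfl fun v _ => by rw [heq0 v],
      show ∑ v : P, ξ (eq (v, true) : G) = ∑ _v : P, ξ t from Finset.sum_congr rfl fun v _ => by
        rw [heq1 v, hPt v],
      hP, hk, Finset.sum_const, Finset.card_univ, ← Nat.card_eq_fintype_card, h.card, nsmul_eq_mul]
  have hn' : (2 * (p : ℂ)) * n = (p : ℂ) * k - p * ξ t := by
    rw [← hn, classInner, hcard, ← mul_assoc, mul_inv_cancel₀ (mul_ne_zero two_ne_zero hpne), one_mul, hsum]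
    simp only [fun v => (hsv v).1, fun v => (hsv v).2, map_one, map_neg, mul_one, mul_neg,
      Finset.sum_add_distrib, Finset.sum_neg_distrib]
    rw [show ∑ v : P, ξ (eq (v, false) : G) = ∑ v : P, ξ v from Finset.sum_congr rfl fun v _ => by rw [heq0 v],
      show ∑ v : P, ξ (eq (v, true) : G) = ∑ _v : P, ξ t from Finset.sum_congr rfl fun v _ => by
        rw [heq1 v, hPt v],
      hP, hk, Finset.sum_const, Finset.card_univ, ← Nat.card_eq_fintype_card, h.card, nsmul_eq_mul]
    ring
  refine ⟨m, n, ?_, ?_⟩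
  · have : ((m + n : ℕ) : ℂ) = (k : ℂ) := by
      refine mul_left_cancel₀ (mul_ne_zero two_ne_zero hpne) ?_
      push_cast
      linear_combination hm' + hn'
    exact_mod_cast this
  · refine mul_left_cancel₀ (mul_ne_zero two_ne_zero hpne) ?_
    linear_combination hn' - hm'

section ctx

variable [IsSimpleGroup G] {Ω : Type v} [Fintype Ω] [MulAction G Ω] [FaithfulSMul G Ω]
  [IsPretransitive G Ω]

namespace Ctx

variable (h : Ctx p P t Ω) {e : Multiplicative (ZMod p) ≃* P} (D : Exc p P e)
include h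

omit [FaithfulSMul G Ω] [IsPretransitive G Ω] in
/-- A nontrivial irreducible character separates the identity. -/
theorem eq_one_of_value (ξ : IrrCharacter G) (hne : (ξ : G → ℂ) ≠ fun _ => 1) {g : G}
    (hg : (ξ : G → ℂ) g = (ξ : G → ℂ) 1) : g = 1 := by
  by_contra h1
  have hlt := CIT.ThreeSizes.norm_lt_degree h.nonab ξ hne h1
  obtain ⟨d, -, hd⟩ := isIrrCharacter_degree ξ.2
  rw [hg, hd] at hlt
  simp at hlt

include D in
omit [FaithfulSMul G Ω] [IsPretransitive G Ω] in
/-- All involutions are conjugate. -/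
theorem one_class {s : G} (hs : orderOf s = 2) : IsConj t s := by
  by_contra hne
  obtain ⟨u, hu, h1⟩ := h.self.exists_ne_one
  have hss : s * s = 1 := by rw [← _root_.sq, ← hs, pow_orderOf_eq_one]
  have hzero : classConst s s u = 0 := by
    rw [classConst, Nat.card_eq_zero]
    refine .inl ⟨fun q => ?_⟩
    obtain ⟨⟨x, y⟩, hx, hy, hxy⟩ := q
    simp only at hx hy hxy
    have hxN := h.factor_mem hss hx hy hu h1 hxy
    have hxo : orderOf x = 2 := by
      obtain ⟨k, rfl⟩ := isConj_iff.1 hx
      rw [show k * s * k⁻¹ = MulAut.conj k s by simp [MulAut.conj_apply], MulEquiv.orderOf_eq, hs]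
    have hxP : x ∉ P := fun hm => by
      have := Subgroup.orderOf_dvd_natCard _ hm
      rw [hxo, h.self.card] at this
      exact h.self.p_ne_two ((Nat.prime_dvd_prime_iff_eq Nat.prime_two hp.out).1 this).symm
    exact hne ((h.isConj_t hxN hxP).trans hx.symm)
  have hord : orderOf s ≠ p := by rw [hs]; exact fun e' => h.self.p_ne_two e'.symm
  have heq := D.classConst_eq h.self hord hord (u := (⟨u, hu⟩ : P)) fun e' => h1 (congrArg Subtype.val e')
  rw [hzero, Nat.cast_zero, zero_mul] at heq
  have hpos : 0 < Nat.card {x : G // IsConj s x} := Nat.card_pos_iff.2 ⟨⟨⟨s, IsConj.refl s⟩⟩, inferInstance⟩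
  have h0 : (Nat.card {x : G // IsConj s x} : ℂ) ≠ 0 := Nat.cast_ne_zero.2 hpos.ne'
  rcases mul_eq_zero.1 heq.symm with h' | h'
  · exact div_ne_zero (mul_ne_zero h0 h0) card_ne_zero' h'
  · have h2 := sub_eq_zero.1 (mul_self_eq_zero.1 h')
    have := h.eq_one_of_value D.chi D.chi_ne_one h2.symm
    rw [this, orderOf_one] at hs
    omega

omit [FaithfulSMul G Ω] [IsPretransitive G Ω] in
/-- The class formula. -/
theorem formula :
    (Nat.card G : ℂ) * ((D.chi : G → ℂ) 1 - (D.chi : G → ℂ) t) ^ 2 =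
      (p : ℂ) * (Nat.card (Subgroup.centralizer ({t} : Set G)) : ℂ) ^ 2 *
        ((D.chi : G → ℂ) 1 * ((D.chi : G → ℂ) 1 + D.eps)) := by
  obtain ⟨u, hu, h1⟩ := h.self.exists_ne_one
  have hord : orderOf t ≠ p := by rw [h.self.orderOf_t]; exact fun e' => h.self.p_ne_two e'.symm
  have heq := D.classConst_eq h.self hord hord (u := (⟨u, hu⟩ : P)) fun e' => h1 (congrArg Subtype.val e')
  rw [h.classConst_t hu h1, card_isConj] at heq
  have hG : ((Subgroup.centralizer ({t} : Set G)).index : ℂ) *
      (Nat.card (Subgroup.centralizer ({t} : Set G)) : ℂ) = (Nat.card G : ℂ) := by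
    rw [← Nat.cast_mul, Subgroup.index_mul_card]
  have hi : ((Subgroup.centralizer ({t} : Set G)).index : ℂ) ≠ 0 :=
    Nat.cast_ne_zero.2 Subgroup.FiniteIndex.index_ne_zero
  have hc : (Nat.card (Subgroup.centralizer ({t} : Set G)) : ℂ) ≠ 0 := Nat.cast_ne_zero.2 Nat.card_pos.ne'
  rw [← hG] at heq ⊢
  field_simp at heq
  linear_combination -(Nat.card (Subgroup.centralizer ({t} : Set G)) : ℂ) * heq

include D in
/-- Every involution fixes as many points as `t`. -/
theorem fix_invol {s : G} (hs : orderOf s = 2) :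
    Nat.card {x : Ω // s • x = x} = Nat.card {x : Ω // t • x = x} := by
  have := classFun_isConj (isClassFunction_of_isCharacter (isCharacter_permChar (G := G) Ω)) (h.one_class D hs)
  rw [h.perm_eq, h.perm_eq] at this
  exact_mod_cast this.symm

end Ctx

end ctx

end CfsgLib.Perm.ThreeP
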