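import Cfsg.Agent.S4706
import Cfsg.Agent.Lib.PushUpTwo.SLFacts
import Mathlib.GroupTheory.GroupAction.Primitive

/-!
# A simple imprimitive group of degree `3p`
-/

set_option autoImplicit false
set_option linter.unusedSectionVars false

namespace CfsgLib.Perm.ThreeP

open MulAction

universe u v

/-- An imprimitive group comes from a group of prime degree. -/
theorem imprimitive {G : Type u} [Group G] [Finite G] [IsSimpleGroup G] {p : ℕ} [hp : Fact p.Prime]
    (h5 : 5 ≤ p) {Ω : Type v} [Fintype Ω] [MulAction G Ω] [IsPretransitive G Ω]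
    (hΩ : Nat.card Ω = 3 * p) (P : Sylow p G)
    (hN : Nat.card (Subgroup.normalizer ((P : Subgroup G) : Set G)) = 2 * p)
    (hnp : ¬ IsPreprimitive G Ω) :
    ∃ (F : Type) (_ : Field F) (_ : Fintype F) (m : ℕ), Fintype.card F = 2 ^ m ∧ p = 2 ^ m + 1 ∧
      Nonempty (G ≃* Matrix.ProjectiveSpecialLinearGroup (Fin 2) F) := by
  classical
  haveI : Nontrivial Ω := Finite.one_lt_card_iff_nontrivial.1 (by rw [hΩ]; omega)
  obtain ⟨a, -⟩ := exists_pair_ne Ω
  set H := stabilizer G a with hHdef
  have hHi : H.index = 3 * p := by rw [hHdef, index_stabilizer_of_transitive, hΩ]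
  have hHtop : H ≠ ⊤ := fun e' => by rw [e', Subgroup.index_top] at hHi; omega
  obtain ⟨K, hHK, hKtop⟩ : ∃ K, H < K ∧ K ≠ ⊤ := by
    by_contra hno
    push Not at hno
    exact hnp ((isCoatom_stabilizer_iff_preprimitive G a).1 ⟨hHtop, fun K hK => hno K hK⟩)
  have hKne1 : K.index ≠ 1 := fun e' => hKtop (Subgroup.index_eq_one.1 e')
  have hrel : H.relIndex K ≠ 1 := fun e' => hHK.not_ge (Subgroup.relIndex_eq_one.1 e')
  have hprod := Subgroup.relIndex_mul_index hHK.le
  rw [hHi] at hprod
  have hd : K.index = 3 ∨ K.index = p := by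
    obtain ⟨x, y, hx, hy, hxy⟩ := (Nat.dvd_mul).1 (show K.index ∣ 3 * p from ⟨H.relIndex K, by rw [← hprod, mul_comm]⟩)
    rcases (Nat.dvd_prime Nat.prime_three).1 hx with rfl | rfl <;>
      rcases (Nat.dvd_prime hp.out).1 hy with rfl | rfl
    · exact absurd (by rw [← hxy]) hKne1
    · exact Or.inr (by rw [← hxy, one_mul])
    · exact Or.inl (by rw [← hxy, mul_one])
    · refine absurd ?_ hrel
      rw [← hxy] at hprod
      exact (mul_eq_right₀ (by positivity)).1 hprod
  have hinj : Function.Injective (MulAction.toPermHom G (G ⧸ K)) := by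
    rw [← MonoidHom.ker_eq_bot_iff, ← Subgroup.normalCore_eq_ker]
    rcases (inferInstance : K.normalCore.Normal).eq_bot_or_eq_top with h' | h'
    · exact h'
    · exact absurd (top_le_iff.1 (h' ▸ K.normalCore_le)) hKtop
  have hdvdG : p ∣ Nat.card G := by
    refine (dvd_mul_left p 3).trans ?_
    rw [← hHi]
    exact Subgroup.index_dvd_card H
  rcases hd with hd | hd
  · exfalso
    have h6 := Subgroup.card_dvd_of_injective _ hinj
    rw [Nat.card_perm, ← Subgroup.index_eq_card, hd] at h6
    have := Nat.le_of_dvd (by norm_num [Nat.factorial]) (hdvdG.trans h6)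
    norm_num [Nat.factorial] at this
    have h56 : p ∣ 6 := by simpa [Nat.factorial] using hdvdG.trans h6
    have : p = 5 ∨ p = 6 := by omega
    rcases this with rfl | rfl
    · norm_num at h56
    · exact absurd hp.out (by norm_num)
  · set φ := MulAction.toPermHom G (G ⧸ K) with hφ
    let ψ : G ≃* φ.range := MonoidHom.ofInjective hinj
    letI := Fintype.ofFinite (G ⧸ K)
    have hα : Fintype.card (G ⧸ K) = p := by rw [← Nat.card_eq_fintype_card, ← Subgroup.index_eq_card, hd]
    have hP' : Nat.card ((P : Subgroup G).map ψ.toMonoidHom) = p ^ (Nat.card φ.range).factorization p := by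
      rw [Subgroup.card_map_of_injective (f := ψ.toMonoidHom) ψ.injective, P.card_eq_multiplicity,
        Nat.card_congr ψ.toEquiv]
    let P' : Sylow p φ.range := Sylow.ofCard _ hP'
    have hP'c : (P' : Subgroup φ.range) = (P : Subgroup G).map ψ.toMonoidHom := Sylow.coe_ofCard _ _
    have hN' : Nat.card (Subgroup.normalizer ((P' : Subgroup φ.range) : Set φ.range)) = 2 * p := by
      rw [hP'c, ← Subgroup.map_equiv_normalizer_eq,
        Subgroup.card_map_of_injective (f := ψ.toMonoidHom) ψ.injective, hN]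
    rcases Cfsg.Agent.S4706.result (by omega) hα φ.range P' hN' with hn | ⟨m, F, i, j, hpm, hF, ⟨g⟩⟩
    · exfalso
      rw [hP'c] at hn
      have hPn : (P : Subgroup G).Normal := by
        refine ⟨fun x hx y => ?_⟩
        have := hn.conj_mem _ (Subgroup.mem_map_of_mem ψ.toMonoidHom hx) (ψ y)
        rw [MulEquiv.coe_toMonoidHom, ← map_inv, ← map_mul, ← map_mul] at this
        exact (Subgroup.mem_map_iff_mem (f := ψ.toMonoidHom) ψ.injective).1 this
      rw [Subgroup.normalizer_eq_top_iff.2 hPn, Subgroup.card_top] at hN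
      have h3 : 3 * p ∣ 2 * p := hN ▸ hHi ▸ Subgroup.index_dvd_card H
      have := Nat.dvd_of_mul_dvd_mul_right hp.out.pos h3
      norm_num at this
    · haveI := (CfsgLib.PushUp.charP_of_card (p := 2) hF).1
      exact ⟨F, i, j, m, hF, hpm, ⟨(ψ.trans g).trans
        (MulEquiv.ofBijective CfsgLib.PushUpTwo.toPSL CfsgLib.PushUpTwo.toPSL_bijective)⟩⟩

end CfsgLib.Perm.ThreeP
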