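import Cfsg.Agent.Lib.Perm.PrimeTwoP.Chars
import Cfsg.Agent.Lib.Char.Virtual

/-!
# A self-centralizing subgroup of prime order with normalizer of order `2p`: induced characters
-/

set_option autoImplicit false
set_option linter.unusedSectionVars false

namespace CfsgLib.Perm.ThreeP

open Cfsg CfsgLib.Char
open scoped ComplexConjugate

universe u

variable {G : Type u} [Group G] {p : ℕ} [hp : Fact p.Prime]

/-- The standing hypothesis: `C(u) = P` on `P#`, and `t` generates `N(P)` over `P` and inverts `P`. -/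
structure SelfTwo (p : ℕ) (P : Subgroup G) (t : G) : Prop where
  five : 5 ≤ p
  card : Nat.card P = p
  cent : ∀ u ∈ P, u ≠ 1 → Subgroup.centralizer ({u} : Set G) = P
  t_mul : t * t = 1
  t_not : t ∉ P
  t_inv : ∀ u ∈ P, t * u * t⁻¹ = u⁻¹
  norm : ∀ x ∈ Subgroup.normalizer (P : Set G), x ∈ P ∨ x * t ∈ P

variable {P : Subgroup G} {t : G}

namespace SelfTwo

variable (h : SelfTwo p P t)
include h

theorem p_ne_two : p ≠ 2 := by have := h.five; omega

theorem zpowers_eq [Finite G] {g : G} (hg : g ∈ P) (h1 : g ≠ 1) :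
    Subgroup.zpowers g = P ∧ orderOf g = p := by
  have hd : orderOf g ∣ p := h.card ▸ Subgroup.orderOf_dvd_natCard P hg
  have ho : orderOf g = p := ((Nat.dvd_prime hp.out).1 hd).resolve_left fun e => h1 (orderOf_eq_one_iff.1 e)
  exact ⟨Subgroup.eq_of_le_of_card_ge (Subgroup.zpowers_le.2 hg)
    (by rw [Nat.card_zpowers, ho, h.card]), ho⟩

theorem t_ne_one : t ≠ 1 := fun e => h.t_not (e ▸ P.one_mem)

theorem orderOf_t : orderOf t = 2 :=
  orderOf_eq_prime (by rw [sq]; exact h.t_mul) h.t_ne_one

theorem exists_ne_one : ∃ u ∈ P, u ≠ (1 : G) := by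
  have : Nontrivial P := by
    haveI : Finite P := Nat.finite_of_card_ne_zero (h.card ▸ hp.out.ne_zero)
    exact Finite.one_lt_card_iff_nontrivial.1 (h.card ▸ hp.out.one_lt)
  obtain ⟨u, hu⟩ := exists_ne (1 : P)
  exact ⟨u, u.2, fun e => hu (Subtype.ext e)⟩

/-- The normalizer acts on `P` by `±1`, each half of the time. -/
theorem sum_conj [Fintype G] {g : G} (hg : g ∈ P) (h1 : g ≠ 1) (F : G → ℂ)
    (hF : ∀ x ∉ Subgroup.normalizer (P : Set G), F (x⁻¹ * g * x) = 0) :
    ∑ x : G, F (x⁻¹ * g * x) = (p : ℂ) * (F g + F g⁻¹) := by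
  classical
  have hcen := h.cent g hg h1
  have hfix : ∀ x ∈ P, x⁻¹ * g * x = g := fun x hx => by
    rw [← hcen] at hx
    rw [mul_assoc, ← Subgroup.mem_centralizer_singleton_iff.1 hx, inv_mul_cancel_left]
  have hflip : ∀ x : G, x * t ∈ P → x⁻¹ * g * x = g⁻¹ := by
    intro x hx
    have e := hfix _ hx
    calc x⁻¹ * g * x = t * ((x * t)⁻¹ * g * (x * t)) * t⁻¹ := by group
      _ = g⁻¹ := by rw [e, h.t_inv g hg]
  have htN : ∀ x : G, x ∈ P ∨ x * t ∈ P → x ∈ Subgroup.normalizer (P : Set G) := by
    have ht : t ∈ Subgroup.normalizer (P : Set G) := by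
      refine Subgroup.mem_normalizer_iff.2 fun v => ⟨fun hv => by rw [h.t_inv v hv]; exact P.inv_mem hv,
        fun hv => ?_⟩
      have e : t * (t * v * t⁻¹) * t⁻¹ = v := by
        rw [inv_eq_of_mul_eq_one_right h.t_mul]
        simp only [mul_assoc, h.t_mul, mul_one]
        rw [← mul_assoc, h.t_mul, one_mul]
      rw [← e, h.t_inv _ hv]
      exact P.inv_mem hv
    rintro x (hx | hx)
    · exact Subgroup.le_normalizer hx
    · have := Subgroup.mul_mem _ (Subgroup.le_normalizer hx) (Subgroup.inv_mem _ ht)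
      rwa [mul_inv_cancel_right] at this
  have hsplit : ∀ x : G, F (x⁻¹ * g * x) =
      (if x ∈ P then F g else 0) + (if x * t ∈ P then F g⁻¹ else 0) := by
    intro x
    by_cases hx : x ∈ P
    · rw [if_pos hx, if_neg fun hxt => h.t_not ((P.mul_mem_cancel_left hx).1 hxt), hfix x hx, add_zero]
    · by_cases hxt : x * t ∈ P
      · rw [if_neg hx, if_pos hxt, hflip x hxt, zero_add]
      · rw [if_neg hx, if_neg hxt, add_zero]
        exact hF x fun hxN => (h.norm x hxN).elim hx hxt
  have c1 : (Finset.univ.filter (fun x : G => x ∈ P)).card = p := by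
    rw [← Fintype.card_subtype, ← Nat.card_eq_fintype_card]; exact h.card
  have c2 : (Finset.univ.filter (fun x : G => x * t ∈ P)).card = p := by
    rw [← c1, ← Finset.card_map (Equiv.mulRight t).toEmbedding]
    congr 1
    ext x
    simp only [Finset.mem_map_equiv, Finset.mem_filter, Finset.mem_univ, true_and,
      Equiv.mulRight_symm, Equiv.coe_mulRight, inv_mul_cancel_right]
  rw [Finset.sum_congr rfl fun x _ => hsplit x, Finset.sum_add_distrib, ← Finset.sum_filter,
    ← Finset.sum_filter, Finset.sum_const, Finset.sum_const, c1, c2]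
  simp only [nsmul_eq_mul]
  ring

end SelfTwo

/-- The linear characters of `P`. -/
noncomputable def linF (e : Multiplicative (ZMod p) ≃* P) (a : ZMod p) : P → ℂ :=
  fun u => ZMod.stdAddChar (a * Multiplicative.toAdd (e.symm u))

section lin

variable (e : Multiplicative (ZMod p) ≃* P)

theorem linF_one (a : ZMod p) : linF e a 1 = 1 := by simp [linF]

theorem linF_zero : linF e 0 = fun _ => 1 := by funext u; simp [linF]

theorem linF_inv (a : ZMod p) (u : P) : linF e a u⁻¹ = linF e (-a) u := by simp [linF, toAdd_inv]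

theorem linF_conj (a : ZMod p) (u : P) : conj (linF e a u) = linF e (-a) u := by
  rw [linF, ← AddChar.map_neg_eq_conj, linF, neg_mul]

theorem linF_mul (c d : ZMod p) (u : P) : linF e c u * linF e d u = linF e (c + d) u := by
  simp only [linF, ← AddChar.map_add_eq_mul, add_mul]

theorem isCharacter_linF (a : ZMod p) : IsCharacter P (linF e a) := by
  let f : P →* ℂ :=
    { toFun := linF e a
      map_one' := linF_one e a
      map_mul' := fun u v => by
        simp only [linF, map_mul, toAdd_mul, mul_add]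
        exact AddChar.map_add_eq_mul _ _ _ }
  exact isCharacter_of_isIrr (isIrrCharacter_lin f.toHomUnits)

theorem sum_linF [Fintype P] (a : ZMod p) : ∑ u : P, linF e a u = if a = 0 then (p : ℂ) else 0 := by
  rw [← Equiv.sum_comp (Multiplicative.ofAdd.trans e.toEquiv) (linF e a)]
  simp only [linF, Equiv.trans_apply, MulEquiv.toEquiv_eq_coe, MulEquiv.coe_toEquiv,
    MulEquiv.symm_apply_apply, toAdd_ofAdd, mul_comm a]
  rw [AddChar.sum_mulShift a (ZMod.isPrimitive_stdAddChar p), ZMod.card]
  split <;> simp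

theorem sum_linF_dual {u : P} (hu : u ≠ 1) {k : ZMod p} (hk : k ≠ 0) :
    ∑ a : ZMod p, linF e (k * a) u = 0 := by
  have h := AddChar.sum_mulShift (k * Multiplicative.toAdd (e.symm u)) (ZMod.isPrimitive_stdAddChar p)
  rw [if_neg (mul_ne_zero hk fun h0 => hu (by
    have : e.symm u = 1 := Multiplicative.toAdd.injective (by rw [h0, toAdd_one])
    simpa using congrArg e this)), Nat.cast_zero] at h
  rw [← h]
  exact Finset.sum_congr rfl fun a _ => by rw [linF, mul_comm k a, mul_assoc]

/-- The sum of the pair of conjugate linear characters. -/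
noncomputable def pairF (a : ZMod p) (u : P) : ℂ := linF e a u + linF e (-a) u

theorem conj_pairF (a : ZMod p) (u : P) : conj (pairF e a u) = pairF e a u := by
  rw [pairF, map_add, linF_conj, linF_conj, neg_neg, add_comm]

theorem sum_pairF (hp2 : p ≠ 2) {u : P} (hu : u ≠ 1) :
    ∑ a ∈ TwoP.halfSet p, pairF e a u = -1 := by
  have h := TwoP.half_sum hp2 (fun a => linF e a u)
  rw [show (fun a => linF e a u) = fun a => linF e (1 * a) u by simp,
    sum_linF_dual e hu one_ne_zero] at h
  simp only [one_mul, linF_zero] at h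
  rw [← zero_sub (1 : ℂ), ← h]
  rfl

theorem sum_pairF_sq (hp2 : p ≠ 2) {u : P} (hu : u ≠ 1) :
    ∑ a ∈ TwoP.halfSet p, pairF e a u * pairF e a u = (p : ℂ) - 2 := by
  have hsq : ∀ a : ZMod p, pairF e a u * pairF e a u =
      (linF e (2 * a) u + linF e (2 * -a) u) + 2 := fun a => by
    have h0 : linF e (a + -a) u = 1 := by rw [add_neg_cancel, linF_zero]
    rw [pairF, two_mul a, two_mul (-a), ← linF_mul e a a, ← linF_mul e (-a) (-a)]
    linear_combination 2 * linF_mul e a (-a) u + 2 * h0
  have h20 : (2 : ZMod p) ≠ 0 := fun h => by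
    have h' : ((2 : ℕ) : ZMod p) = 0 := by exact_mod_cast h
    rw [ZMod.natCast_eq_zero_iff] at h'
    exact hp2 ((Nat.prime_dvd_prime_iff_eq hp.out Nat.prime_two).1 h')
  rw [Finset.sum_congr rfl fun a _ => hsq a, Finset.sum_add_distrib,
    TwoP.half_sum hp2 (fun a => linF e (2 * a) u), sum_linF_dual e hu h20, Finset.sum_const, nsmul_eq_mul,
    mul_zero, linF_zero]
  linear_combination TwoP.card_halfSet (p := p) hp2

end lin

variable [Fintype G] (h : SelfTwo p P t) (e : Multiplicative (ZMod p) ≃* P)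

/-- The induced linear character. -/
noncomputable def indF (a : ZMod p) : G → ℂ := indFun P (linF e a)

/-- The difference of induced characters less the principal character. -/
noncomputable def tauF (a : ZMod p) : G → ℂ := indF e 0 - indF e a - fun _ => 1

theorem tauF_apply (a : ZMod p) (g : G) : tauF e a g = indF e 0 g - indF e a g - 1 := rfl

theorem isGeneralized_tauF (a : ZMod p) : IsGeneralizedCharacter G (tauF e a) := by
  have hgen : ∀ b : ZMod p, IsGeneralizedCharacter G (indF e b) := fun b =>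
    isGeneralizedCharacter_of_isCharacter (isCharacter_indFun P (isCharacter_linF e b))
  exact isGeneralizedCharacter_sub (isGeneralizedCharacter_sub (hgen 0) (hgen a))
    (isGeneralizedCharacter_of_isCharacter (isCharacter_of_isIrr isIrrCharacter_one))

theorem indF_one (a : ZMod p) : indF e a 1 = (P.index : ℂ) := by
  rw [indF, indFun_one, linF_one, mul_one]

include h

theorem indF_eq_zero (a : ZMod p) {g : G} (h1 : g ≠ 1) (hg : orderOf g ≠ p) : indF e a g = 0 := by
  rw [indF, indFun, Finset.sum_eq_zero, mul_zero]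
  intro x _
  refine extendByZero_not_mem _ _ fun hm => hg ?_
  have hne : x⁻¹ * g * x ≠ 1 := fun e' => h1 (by
    have := congrArg (fun y => x * y * x⁻¹) e'
    simpa [mul_assoc] using this)
  rw [← (h.zpowers_eq hm hne).2, show x⁻¹ * g * x = MulAut.conj x⁻¹ g by simp [MulAut.conj_apply],
    MulEquiv.orderOf_eq]

/-- Off the elements of order `p`. -/
theorem tauF_off (a : ZMod p) {g : G} (hg : orderOf g ≠ p) : tauF e a g = -1 := by
  rcases eq_or_ne g 1 with rfl | h1
  · rw [tauF_apply, indF_one, indF_one]; ring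
  · rw [tauF_apply, indF_eq_zero h e 0 h1 hg, indF_eq_zero h e a h1 hg]; ring

theorem indF_on (a : ZMod p) {u : P} (hu : u ≠ 1) : indF e a u = pairF e a u := by
  have h1 : (u : G) ≠ 1 := fun h' => hu (Subtype.ext h')
  obtain ⟨hz, -⟩ := h.zpowers_eq u.2 h1
  have hF : ∀ x ∉ Subgroup.normalizer (P : Set G), extendByZero P (linF e a) (x⁻¹ * u * x) = 0 := by
    intro x hx
    refine extendByZero_not_mem _ _ fun hm => hx ?_
    have hne : x⁻¹ * (u : G) * x ≠ 1 := fun e' => h1 (by
      have := congrArg (fun y => x * y * x⁻¹) e'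
      simpa [mul_assoc] using this)
    obtain ⟨hz', -⟩ := h.zpowers_eq hm hne
    rw [Subgroup.mem_normalizer_iff]
    intro v
    constructor <;> intro hv
    · obtain ⟨k, rfl⟩ := Subgroup.mem_zpowers_iff.1 (hz' ▸ hv)
      rw [← conj_zpow, show x * (x⁻¹ * (u : G) * x) * x⁻¹ = u by group]
      exact P.zpow_mem u.2 k
    · obtain ⟨k, hk⟩ := Subgroup.mem_zpowers_iff.1 (hz ▸ hv)
      have : v = (x⁻¹ * (u : G) * x) ^ k := by
        have h3 := conj_zpow (a := x⁻¹) (b := (u : G)) (i := k)
        rw [inv_inv] at h3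
        rw [h3, hk]
        group
      exact this ▸ P.zpow_mem hm k
  rw [indF, indFun, h.sum_conj u.2 h1 _ hF, h.card, extendByZero_mem P _ u.2,
    extendByZero_mem P _ (P.inv_mem u.2), ← mul_assoc, inv_mul_cancel₀ (Nat.cast_ne_zero.2 hp.out.ne_zero),
    one_mul, pairF]
  congr 1
  exact linF_inv e a u

/-- On `P`. -/
theorem tauF_on (a : ZMod p) {u : P} (hu : u ≠ 1) : tauF e a u = 1 - pairF e a u := by
  rw [tauF_apply, indF_on h e 0 hu, indF_on h e a hu, pairF, pairF, neg_zero, linF_zero]
  ring

theorem inner_indF_indF (a b : ZMod p) :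
    classInner (indF e a) (indF e b) =
      ((P.index : ℂ) - 2) / p + (if a = b then 1 else 0) + (if a = -b then 1 else 0) := by
  classical
  haveI : Fintype P := Fintype.ofFinite P
  have hval : ∀ u : P, indF e a u =
      linF e a u + linF e (-a) u + (if u = 1 then (P.index : ℂ) - 2 else 0) := by
    intro u
    split_ifs with h'
    · subst h'
      rw [OneMemClass.coe_one, indF_one, linF_one, linF_one]
      ring
    · rw [indF_on h e a h', pairF, add_zero]
  have hmul : ∀ c : ZMod p, ∀ u : P, linF e c u * linF e (-b) u = linF e (c - b) u := fun c u => by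
    rw [linF_mul, sub_eq_add_neg]
  rw [show classInner (indF e a) (indF e b) = classInner (fun u : P => indF e a u) (linF e b) from
    classInner_indFun_right P _ _ (isClassFunction_indFun P _), classInner, h.card]
  simp only [hval, linF_conj, add_mul, hmul, Finset.sum_add_distrib, sum_linF, ite_mul, zero_mul,
    Finset.sum_ite_eq', Finset.mem_univ, if_true, linF_one, mul_one, sub_eq_zero, neg_eq_iff_eq_neg]
  have hpne : (p : ℂ) ≠ 0 := Nat.cast_ne_zero.2 hp.out.ne_zero
  split_ifs <;> field_simp <;> ring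

theorem inner_one_indF (a : ZMod p) :
    classInner (fun _ : G => (1 : ℂ)) (indF e a) = if a = 0 then 1 else 0 := by
  haveI : Fintype P := Fintype.ofFinite P
  rw [indF, classInner_indFun_right P _ _ (fun _ _ => rfl), classInner, h.card]
  simp only [one_mul, linF_conj, sum_linF, neg_eq_zero]
  have hpne : (p : ℂ) ≠ 0 := Nat.cast_ne_zero.2 hp.out.ne_zero
  split_ifs <;> simp [hpne]

theorem inner_indF_one (a : ZMod p) :
    classInner (indF e a) (fun _ : G => (1 : ℂ)) = if a = 0 then 1 else 0 := by
  rw [← classInner_conj, inner_one_indF h e a]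
  split_ifs <;> simp

theorem inner_tauF_one {a : ZMod p} (ha : a ≠ 0) : classInner (tauF e a) (fun _ : G => (1 : ℂ)) = 0 := by
  simp only [tauF, classInner_sub_left, inner_indF_one h e, if_true, if_neg ha,
    show classInner (fun _ : G => (1 : ℂ)) (fun _ : G => (1 : ℂ)) = 1 from
      classInner_irr_self (⟨_, isIrrCharacter_one⟩ : IrrCharacter G)]
  norm_num

theorem inner_tauF_tauF {a b : ZMod p} (ha : a ∈ TwoP.halfSet p) (hb : b ∈ TwoP.halfSet p) :
    classInner (tauF e a) (tauF e b) = if a = b then 2 else 1 := by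
  have ha0 : a ≠ 0 := (Finset.mem_filter.1 ha).2.1
  have hb0 : b ≠ 0 := (Finset.mem_filter.1 hb).2.1
  simp only [tauF, classInner_sub_left, classInner_sub_right, inner_indF_indF h e, inner_indF_one h e,
    inner_one_indF h e, if_true, if_neg ha0, if_neg hb0, neg_zero, eq_comm (a := (0 : ZMod p)) (b := b),
    eq_comm (a := (0 : ZMod p)) (b := -b), neg_eq_zero, if_neg (TwoP.half_neg h.p_ne_two ha hb),
    show classInner (fun _ : G => (1 : ℂ)) (fun _ : G => (1 : ℂ)) = 1 from
      classInner_irr_self (⟨_, isIrrCharacter_one⟩ : IrrCharacter G)]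
  split_ifs <;> ring

end CfsgLib.Perm.ThreeP
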