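import Cfsg.Agent.Lib.Perm.ThreeP.DegreeLow
import Cfsg.Agent.Lib.Perm.ThreeP.DegreeMid
import Cfsg.Agent.Lib.Perm.ThreeP.Imprimitive

/-!
# Simple transitive groups of degree `3p` with a Sylow normalizer of order `2p`: assembly
-/

set_option autoImplicit false
set_option linter.unusedSectionVars false

namespace CfsgLib.Perm.ThreeP

open Cfsg CfsgLib.Char MulAction

universe u v

/-- The parameters of a rank three group of degree `3p`. -/
def RankThreeData (G : Type u) [Group G] (Ω : Type v) [MulAction G Ω] (p : ℕ) : Prop :=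
  ∃ (a b : Ω) (r : ℤ), a ≠ b ∧ 6 * r ^ 2 + 3 * r + 1 = 2 * (p : ℤ) ∧
    (Nat.card (orbit (stabilizer G a) b) : ℤ) = p + r ∧
    (∀ c, c ≠ a → c ∉ orbit (stabilizer G a) b →
      (Nat.card (orbit (stabilizer G a) c) : ℤ) = 2 * p - 1 - r) ∧
    (∃ g : G, g • a = b ∧ g • b = a) ∧
    2 * (Nat.card {x : Ω // (∃ g : G, g • a = a ∧ g • b = x) ∧ (∃ g : G, g • a = b ∧ g • b = x)} : ℤ) =
      (2 * r - 1) * (r + 1)

variable {G : Type u} [Group G] [Fintype G] {p : ℕ} [hp : Fact p.Prime] {P : Subgroup G} {t : G}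
  [IsSimpleGroup G] {Ω : Type v} [Fintype Ω] [MulAction G Ω] [FaithfulSMul G Ω] [IsPretransitive G Ω]

/-- The primitive case. -/
theorem primitive (h : Ctx p P t Ω) [IsPreprimitive G Ω]
    (hrank : ∀ u : G, orderOf u = p → (∀ x : Ω, u • x ≠ x) → 2 ∣ Nat.card G → ∀ χ θ : IrrCharacter G,
      χ ≠ θ → (χ : G → ℂ) ≠ (fun _ => 1) → (θ : G → ℂ) ≠ (fun _ => 1) →
      (∀ g, permChar G Ω g = 1 + (χ : G → ℂ) g + (θ : G → ℂ) g) →
      (χ : G → ℂ) 1 = ((2 * p - 1 : ℕ) : ℂ) → (θ : G → ℂ) 1 = p → (χ : G → ℂ) u = -1 →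
      (θ : G → ℂ) u = 0 → RankThreeData G Ω p) :
    p = 5 ∧ Nonempty (G ≃* ↥(alternatingGroup (Fin 6))) := by
  haveI : IsCyclic P := isCyclic_of_prime_card h.self.card
  have e : Multiplicative (ZMod p) ≃* P := mulEquivOfCyclicCardEq (by simp [h.self.card])
  obtain ⟨D⟩ := exists_exc h.self e
  obtain ⟨f, hf, hcases⟩ := h.cases D
  rcases hcases with ⟨s, hfe⟩ | ⟨s, hfe, θ, hθne, hθχ, hθ1, hθu, hπ⟩ | ⟨s, hfe, hπ⟩ | ⟨s, -, hfe, hπ⟩
  · exact (h.not_low D hf hfe s).elim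
  · obtain ⟨u, hu, h1⟩ := h.self.exists_ne_one
    obtain ⟨a, b, r, hab, hr, hk, hl, hswap, hcount⟩ := hrank u (h.self.zpowers_eq hu h1).2 (h.no_fix hu h1)
      (h.self.orderOf_t ▸ orderOf_dvd_natCard t) D.chi θ hθχ.symm D.chi_ne_one hθne hπ (hfe ▸ hf) hθ1
      (by rw [D.chi_on h.self hu h1, s, Int.cast_neg, Int.cast_one]) (hθu u hu h1)
    exact h.mid_of_params D hf s hfe (h.mid_value D hf s hfe θ hθ1 hθu hπ) hab hr hk hl hswap hcount
  · exact (h.not_top D hf s hfe hπ).elim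
  · exact (h.not_plus D hf s hfe hπ).elim

end CfsgLib.Perm.ThreeP
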