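import Cfsg.Agent.Lib.Perm.ThreeP.Spectrum
import Cfsg.Agent.Lib.Perm.ThreeP.Main

/-!
# Rank three permutation groups of degree `3p`: the parameters
-/

set_option autoImplicit false
set_option linter.unusedSectionVars false

namespace CfsgLib.Perm.ThreeP

open Cfsg CfsgLib.Char MulAction

universe u v

variable {G : Type u} [Group G] {Ω : Type v} [MulAction G Ω]

/-- The orbital of `(a, b)`. -/
def Orb (G : Type u) [Group G] {Ω : Type v} [MulAction G Ω] (a b x y : Ω) : Prop :=
  ∃ g : G, g • a = x ∧ g • b = y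

theorem orb_smul (g : G) (a b x y : Ω) : Orb G a b (g • x) (g • y) ↔ Orb G a b x y := by
  constructor
  · rintro ⟨h, hx, hy⟩
    exact ⟨g⁻¹ * h, by rw [mul_smul, hx, inv_smul_smul], by rw [mul_smul, hy, inv_smul_smul]⟩
  · rintro ⟨h, hx, hy⟩
    exact ⟨g * h, by rw [mul_smul, hx], by rw [mul_smul, hy]⟩

theorem orb_base_iff (a b y : Ω) : Orb G a b a y ↔ y ∈ orbit (stabilizer G a) b :=
  ⟨fun ⟨g, h1, h2⟩ => ⟨⟨g, h1⟩, h2⟩, fun ⟨g, hg⟩ => ⟨g, g.2, hg⟩⟩

theorem orb_symm {a b : Ω} (h : Orb G a b b a) {x y : Ω} (hxy : Orb G a b x y) : Orb G a b y x := by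
  obtain ⟨g, rfl, rfl⟩ := hxy
  exact (orb_smul g a b b a).2 h

variable [Fintype G] [Fintype Ω] [IsPretransitive G Ω] {p : ℕ} [hp : Fact p.Prime]

/-- Three orbits on the pairs. -/
theorem exists_orbitals (hΩ : Nat.card Ω = 3 * p) (h2 : 2 ∣ Nat.card G) {χ θ : IrrCharacter G}
    [FaithfulSMul G Ω] (hne : χ ≠ θ) (hχ : (χ : G → ℂ) ≠ fun _ => 1) (hθ : (θ : G → ℂ) ≠ fun _ => 1)
    (hπ : ∀ g, permChar G Ω g = 1 + (χ : G → ℂ) g + (θ : G → ℂ) g) :
    ∃ a b c : Ω, a ≠ b ∧ a ≠ c ∧ Orb G a b b a ∧ Orb G a c c a ∧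
      (∀ x y, x ≠ y → (Orb G a b x y ∧ ¬ Orb G a c x y) ∨ (Orb G a c x y ∧ ¬ Orb G a b x y)) := by
  classical
  let one : IrrCharacter G := ⟨_, isIrrCharacter_one⟩
  have hQ : Nat.card (orbitRel.Quotient G (Ω × Ω)) = 3 := by
    have h1 := classInner_permChar_self (G := G) Ω
    rw [show permChar G Ω = (one : G → ℂ) + (χ : G → ℂ) + (θ : G → ℂ) from funext fun g => hπ g,
      classInner_add_left, classInner_add_left, classInner_add_right, classInner_add_right, classInner_add_right,
      classInner_add_right, classInner_add_right, classInner_add_right] at h1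
    simp only [classInner_irr_self, classInner_irr_ne (show one ≠ χ from fun e' => hχ (congrArg Subtype.val e').symm),
      classInner_irr_ne (show one ≠ θ from fun e' => hθ (congrArg Subtype.val e').symm),
      classInner_irr_ne (show χ ≠ one from fun e' => hχ (congrArg Subtype.val e')),
      classInner_irr_ne (show θ ≠ one from fun e' => hθ (congrArg Subtype.val e')),
      classInner_irr_ne hne, classInner_irr_ne hne.symm] at h1
    norm_num at h1
    rw [Nat.card_eq_fintype_card]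
    exact_mod_cast h1.symm
  haveI : Fact (Nat.Prime 2) := ⟨Nat.prime_two⟩
  obtain ⟨t, ht⟩ := exists_prime_orderOf_dvd_card' 2 h2
  obtain ⟨a, hta⟩ : ∃ a : Ω, t • a ≠ a := by
    by_contra hall
    push Not at hall
    have : t = 1 := eq_of_smul_eq_smul (α := Ω) fun x => by rw [hall x, one_smul]
    rw [this, orderOf_one] at ht
    omega
  have htt : t * t = 1 := by rw [← sq, ← ht, pow_orderOf_eq_one]
  set b := t • a with hb
  have hab : a ≠ b := fun e' => hta e'.symm
  have hsb : Orb G a b b a := ⟨t, rfl, by rw [hb, ← mul_smul, htt, one_smul]⟩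
  let cls : Ω × Ω → orbitRel.Quotient G (Ω × Ω) := Quotient.mk _
  have hcls : ∀ x y u w : Ω, cls (x, y) = cls (u, w) ↔ Orb G u w x y := by
    intro x y u w
    constructor
    · intro h
      obtain ⟨g, hg⟩ := Quotient.exact h
      exact ⟨g, congrArg Prod.fst hg, congrArg Prod.snd hg⟩
    · rintro ⟨g, hx, hy⟩
      exact Quotient.sound ⟨g, Prod.ext hx hy⟩
  haveI := Fintype.ofFinite (orbitRel.Quotient G (Ω × Ω))
  obtain ⟨c, hca, hcb⟩ : ∃ c, c ≠ a ∧ ¬ Orb G a b a c := by
    by_contra hno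
    push Not at hno
    have hsub : (Finset.univ : Finset (orbitRel.Quotient G (Ω × Ω))) ⊆ {cls (a, a), cls (a, b)} := by
      intro q _
      obtain ⟨⟨x, y⟩, rfl⟩ := Quotient.exists_rep q
      obtain ⟨g, rfl⟩ := MulAction.exists_smul_eq G a x
      rw [Finset.mem_insert, Finset.mem_singleton]
      rcases eq_or_ne (g⁻¹ • y) a with e' | e'
      · exact Or.inl ((hcls _ _ _ _).2 ⟨g, rfl, by rw [← e', smul_inv_smul]⟩)
      · refine Or.inr ((hcls _ _ _ _).2 ?_)
        have h := (orb_smul g a b a (g⁻¹ • y)).2 (hno _ e')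
        rwa [smul_inv_smul] at h
    have := (Finset.card_le_card hsub).trans Finset.card_le_two
    rw [Finset.card_univ, ← Nat.card_eq_fintype_card, hQ] at this
    omega
  have hdiag : ∀ w : Ω, w ≠ a → cls (a, a) ≠ cls (a, w) := by
    intro w hw e'
    obtain ⟨g, h1, h2'⟩ := (hcls _ _ _ _).1 e'
    exact hw (MulAction.injective g (h2'.trans h1.symm))
  have hbc : cls (a, b) ≠ cls (a, c) := by
    intro e'
    obtain ⟨g, h1, h2'⟩ := (hcls _ _ _ _).1 e'.symm
    exact hcb ⟨g, h1, h2'⟩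
  have h3 : ({cls (a, a), cls (a, b), cls (a, c)} : Finset (orbitRel.Quotient G (Ω × Ω))) = Finset.univ := by
    refine Finset.eq_univ_of_card _ ?_
    rw [← Nat.card_eq_fintype_card, hQ, Finset.card_insert_of_notMem, Finset.card_pair hbc]
    simp only [Finset.mem_insert, Finset.mem_singleton, not_or]
    exact ⟨hdiag b hab.symm, hdiag c hca⟩
  have hall : ∀ x y, x ≠ y → (Orb G a b x y ∧ ¬ Orb G a c x y) ∨ (Orb G a c x y ∧ ¬ Orb G a b x y) := by
    intro x y hxy
    have hm : cls (x, y) ∈ ({cls (a, a), cls (a, b), cls (a, c)} : Finset _) := h3 ▸ Finset.mem_univ _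
    rw [Finset.mem_insert, Finset.mem_insert, Finset.mem_singleton] at hm
    rcases hm with hm | hm | hm
    · obtain ⟨g, h1, h2'⟩ := (hcls _ _ _ _).1 hm
      exact absurd (h1.symm.trans h2') hxy
    · exact Or.inl ⟨(hcls _ _ _ _).1 hm, fun h => hbc (hm.symm.trans ((hcls _ _ _ _).2 h))⟩
    · exact Or.inr ⟨(hcls _ _ _ _).1 hm, fun h => hbc (((hcls _ _ _ _).2 h).symm.trans hm)⟩
  refine ⟨a, b, c, hab, hca.symm, hsb, ?_, hall⟩
  rcases hall c a hca with ⟨h, -⟩ | ⟨h, -⟩
  · exact absurd (orb_symm hsb h) hcb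
  · exact h

variable {u : G} {χ θ : IrrCharacter G}

/-- The parameters of one orbital. -/
theorem orbital_params [FaithfulSMul G Ω] (hΩ : Nat.card Ω = 3 * p) (hu : orderOf u = p)
    (hfree : ∀ x : Ω, u • x ≠ x) (hne : χ ≠ θ)
    (hπ : ∀ g, permChar G Ω g = 1 + (χ : G → ℂ) g + (θ : G → ℂ) g)
    (hχ1 : (χ : G → ℂ) 1 = ((2 * p - 1 : ℕ) : ℂ)) (hθ1 : (θ : G → ℂ) 1 = p)
    (hχu : (χ : G → ℂ) u = -1) (hθu : (θ : G → ℂ) u = 0)
    {a b c : Ω} (hab : a ≠ b) (hac : a ≠ c) (hsb : Orb G a b b a)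
    (hall : ∀ x y, x ≠ y → (Orb G a b x y ∧ ¬ Orb G a c x y) ∨ (Orb G a c x y ∧ ¬ Orb G a b x y))
    {j : ℕ} (hj : Nat.card {z : Ω // Orb G a b z (u • z)} = p * j) (hj1 : j ≤ 1) :
    ∃ r : ℤ, 6 * r ^ 2 + 3 * r + 1 = 2 * (p : ℤ) ∧ (Nat.card (orbit (stabilizer G a) b) : ℤ) = p + r ∧
      (Nat.card (orbit (stabilizer G a) c) : ℤ) = 2 * p - 1 - r ∧
      2 * (Nat.card {x : Ω // Orb G a b a x ∧ Orb G a b b x} : ℤ) = (2 * r - 1) * (r + 1) := by
  classical
  set A : Matrix Ω Ω ℂ := Matrix.of fun x y => if Orb G a b x y then 1 else 0 with hA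
  set k := Nat.card (orbit (stabilizer G a) b) with hk
  set N : Ω → Ω → ℕ := fun x y => (Finset.univ.filter fun z => Orb G a b x z ∧ Orb G a b z y).card with hN
  have hirr : ∀ x, ¬ Orb G a b x x := fun x ⟨g, h1, h2⟩ => hab (MulAction.injective g (h1.trans h2.symm))
  have hrow : ∀ x, (Finset.univ.filter fun y => Orb G a b x y).card = k := by
    intro x
    obtain ⟨g, rfl⟩ := MulAction.exists_smul_eq G a x
    rw [hk, ← Fintype.card_subtype, ← Nat.card_eq_fintype_card]
    refine Nat.card_congr ((MulAction.toPerm g⁻¹).subtypeEquiv fun y => ?_)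
    rw [MulAction.toPerm_apply, ← orb_base_iff, ← orb_smul g⁻¹, inv_smul_smul]
  have hNinv : ∀ (g : G) x y, N (g • x) (g • y) = N x y := by
    intro g x y
    simp only [hN]
    rw [← Fintype.card_subtype, ← Fintype.card_subtype]
    refine Fintype.card_congr ((MulAction.toPerm g⁻¹).subtypeEquiv fun z => ?_)
    rw [MulAction.toPerm_apply, ← orb_smul g⁻¹ a b (g • x) z, ← orb_smul g⁻¹ a b z (g • y), inv_smul_smul,
      inv_smul_smul]
  set lam := N a b with hlam
  set mu := N a c with hmu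
  have hNval : ∀ x y, x ≠ y → (Orb G a b x y → N x y = lam) ∧ (¬ Orb G a b x y → N x y = mu) := by
    intro x y hxy
    refine ⟨fun ⟨g, h1, h2⟩ => by rw [← h1, ← h2, hNinv], fun hn => ?_⟩
    obtain ⟨g, h1, h2⟩ := ((hall x y hxy).resolve_left fun h => hn h.1).1
    rw [← h1, ← h2, hNinv]
  have hNdiag : ∀ x, N x x = k := by
    intro x
    rw [← hrow x]
    simp only [hN]
    congr 1
    ext z
    simp only [Finset.mem_filter, Finset.mem_univ, true_and]
    exact ⟨And.left, fun h => ⟨h, orb_symm hsb h⟩⟩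
  have hrowA : ∀ x, ∑ y, A x y = (k : ℂ) := fun x => by
    simp only [hA, Matrix.of_apply, Finset.sum_boole, hrow x]
  have hcolA : ∀ y, ∑ x, A x y = (k : ℂ) := fun y => by
    simp only [hA, Matrix.of_apply, Finset.sum_boole]
    rw [← hrow y]
    congr 2
    ext x
    simp only [Finset.mem_filter, Finset.mem_univ, true_and]
    exact ⟨orb_symm hsb, orb_symm hsb⟩
  have hsq : A * A = ((k : ℂ) - mu) • (1 : Matrix Ω Ω ℂ) + ((lam : ℂ) - mu) • A +
      (mu : ℂ) • Matrix.of (fun _ _ => 1) := by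
    ext x y
    rw [Matrix.mul_apply]
    have hl : ∑ z, A x z * A z y = (N x y : ℂ) := by
      simp only [hA, Matrix.of_apply, ite_mul, one_mul, zero_mul, ← ite_and, Finset.sum_boole, hN]
    rw [hl]
    simp only [Matrix.add_apply, Matrix.smul_apply, Matrix.one_apply, Matrix.of_apply, smul_eq_mul, hA]
    rcases eq_or_ne x y with rfl | hxy
    · rw [hNdiag, if_pos rfl, if_neg (hirr x)]; ring
    · rw [if_neg hxy]
      by_cases hxy' : Orb G a b x y
      · rw [(hNval x y hxy).1 hxy', if_pos hxy']; ring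
      · rw [(hNval x y hxy).2 hxy', if_neg hxy']; ring
  have hid : (k : ℂ) * k = ((k : ℂ) - mu) + ((lam : ℂ) - mu) * k + mu * ((3 * p : ℕ) : ℂ) := by
    have h := congrArg (fun M : Matrix Ω Ω ℂ => ∑ y, M a y) hsq
    simp only [Matrix.mul_apply, Matrix.add_apply, Matrix.smul_apply, Matrix.one_apply, Matrix.of_apply,
      smul_eq_mul, Finset.sum_add_distrib, ← Finset.mul_sum, hrowA] at h
    rw [Finset.sum_comm] at h
    simp only [← Finset.mul_sum, hrowA, ← Finset.sum_mul, Finset.sum_ite_eq, Finset.mem_univ, if_true, mul_one,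
      Finset.sum_const, Finset.card_univ, ← Nat.card_eq_fintype_card, hΩ, nsmul_eq_mul] at h
    linear_combination h
  have hAJ : A * Matrix.of (fun _ _ => (1 : ℂ)) = (k : ℂ) • Matrix.of (fun _ _ => 1) := by
    ext x y
    simp [Matrix.mul_apply, hrowA]
  have hJA : Matrix.of (fun _ _ => (1 : ℂ)) * A = (k : ℂ) • Matrix.of (fun _ _ => 1) := by
    ext x y
    simp [Matrix.mul_apply, hcolA]
  have hk0 : 1 ≤ k := by
    haveI : Nonempty (orbit (stabilizer G a) b) := ⟨⟨b, mem_orbit_self b⟩⟩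
    exact Nat.card_pos
  have hmuk : mu ≤ k := hrow a ▸ Finset.card_le_card fun z hz => by
    simp only [Finset.mem_filter, Finset.mem_univ, true_and] at hz ⊢
    exact hz.1
  have hlamk : lam < k := hrow a ▸ Finset.card_lt_card (Finset.ssubset_iff_of_subset (fun z hz => by
    simp only [Finset.mem_filter, Finset.mem_univ, true_and] at hz ⊢
    exact hz.1) |>.2 ⟨b, by simp [show Orb G a b a b from ⟨1, one_smul _ _, one_smul _ _⟩], by simp [hirr b]⟩)
  have hdisc : ((lam : ℂ) - mu) ^ 2 + 4 * ((k : ℂ) - mu) ≠ 0 := by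
    intro h
    have h' : ((lam : ℤ) - mu) ^ 2 + 4 * ((k : ℤ) - mu) = 0 := by exact_mod_cast h
    have h0 : 0 ≤ ((lam : ℤ) - mu) ^ 2 := sq_nonneg _
    have hkm : mu = k := by omega
    have h1 : ((lam : ℤ) - mu) ^ 2 = 0 := by omega
    rw [pow_eq_zero_iff two_ne_zero] at h1
    omega
  obtain ⟨x, y, hxy1, hxy2, htr⟩ := Spectrum.eigen (G := G) (A := A)
    (fun g x y => by simp only [hA, Matrix.of_apply, orb_smul]) (n := 3 * p)
    (by rw [← Nat.card_eq_fintype_card, hΩ]) (by have := hp.out.pos; omega) hAJ hJA hsq hid hdisc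
    (a := a) (b := b) (c := c) ⟨hab, hac⟩
    (by simp [hA, show Orb G a b a b from ⟨1, one_smul _ _, one_smul _ _⟩])
    (by
      have hcc : Orb G a c a c := ⟨1, one_smul _ _, one_smul _ _⟩
      have : ¬ Orb G a b a c := ((hall a c hac).resolve_left fun h => h.2 hcc).2
      simp [hA, this]) hne hπ
  have h1 := htr 1
  have htr1 : Spectrum.trg A (1 : G) = 0 := by simp [Spectrum.trg, hA, hirr]
  have htru : Spectrum.trg A u = ((p * j : ℕ) : ℂ) := by
    rw [← hj]
    simp only [Spectrum.trg, hA, Matrix.of_apply, Finset.sum_boole, Nat.card_eq_fintype_card, Fintype.card_subtype]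
  rw [htr1, hχ1, hθ1] at h1
  have h2 := htr u
  rw [htru, hχu, hθu] at h2
  have hpc : (p : ℂ) ≠ 0 := Nat.cast_ne_zero.2 hp.out.ne_zero
  have hp1 : 1 ≤ 2 * p := by have := hp.out.pos; omega
  push_cast [Nat.cast_sub hp1] at h1 h2
  have hxv : x = (k : ℂ) - p * j := by linear_combination h2
  have hyv : y = -(j : ℂ) - 2 * x := mul_right_cancel₀ hpc (by linear_combination -h1 + h2)
  rcases (by omega : j = 0 ∨ j = 1) with rfl | rfl
  · exfalso
    rw [Nat.cast_zero] at hxv hyv
    have h3 : ((mu + 2 * k * k : ℕ) : ℂ) = ((k : ℕ) : ℂ) := by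
      rw [hyv, hxv] at hxy2
      push_cast
      linear_combination -hxy2
    have h4 : mu + 2 * k * k = k := by exact_mod_cast h3
    nlinarith
  obtain ⟨r, hr⟩ : ∃ r : ℤ, (k : ℤ) = p + r := ⟨(k : ℤ) - p, by ring⟩
  have hxr : x = (r : ℂ) := by
    have hrc : ((k : ℤ) : ℂ) = ((p + r : ℤ) : ℂ) := by rw [hr]
    push_cast at hrc hxv
    linear_combination hxv + hrc
  have hyr : y = -1 - 2 * (r : ℂ) := by rw [hyv, hxr, Nat.cast_one]
  rw [hxr, hyr] at hxy1 hxy2
  have e1 : (lam : ℤ) - mu = -1 - r := by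
    apply Int.cast_injective (α := ℂ)
    push_cast
    linear_combination -hxy1
  have e2 : (k : ℤ) - mu = r * (1 + 2 * r) := by
    apply Int.cast_injective (α := ℂ)
    push_cast
    linear_combination hxy2
  have e3 : (k : ℤ) * k = ((k : ℤ) - mu) + ((lam : ℤ) - mu) * k + mu * (3 * p) := by
    apply Int.cast_injective (α := ℂ)
    push_cast at hid ⊢
    linear_combination hid
  have hp0 : (p : ℤ) ≠ 0 := Int.natCast_ne_zero.2 hp.out.ne_zero
  have hquad : 6 * r ^ 2 + 3 * r + 1 = 2 * (p : ℤ) := by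
    have hmu' : (mu : ℤ) = p + r - r * (1 + 2 * r) := by linear_combination -e2 + hr
    rw [e2, e1, hmu', hr] at e3
    refine mul_left_cancel₀ hp0 ?_
    linear_combination e3
  refine ⟨r, hquad, hr, ?_, ?_⟩
  · have hsum : k + Nat.card (orbit (stabilizer G a) c) + 1 = 3 * p := by
      have hk' := hrow a
      have hc' : Nat.card (orbit (stabilizer G a) c) = (Finset.univ.filter fun y => Orb G a c a y).card := by
        rw [← Fintype.card_subtype, ← Nat.card_eq_fintype_card]
        exact Nat.card_congr (Equiv.subtypeEquivRight fun y => (orb_base_iff a c y).symm)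
      have hn : (Finset.univ.erase a).card + 1 = 3 * p := by
        rw [Finset.card_erase_add_one (Finset.mem_univ a), Finset.card_univ, ← Nat.card_eq_fintype_card, hΩ]
      rw [hc', ← hk', ← Finset.card_union_of_disjoint, ← hn]
      · congr 2
        ext y
        simp only [Finset.mem_union, Finset.mem_filter, Finset.mem_univ, true_and, Finset.mem_erase, and_true]
        constructor
        · rintro (⟨g, h1', h2'⟩ | ⟨g, h1', h2'⟩) e'
          · exact hab (MulAction.injective g (h1'.trans (h2'.trans e').symm))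
          · exact hac (MulAction.injective g (h1'.trans (h2'.trans e').symm))
        · intro hy
          exact (hall a y (Ne.symm hy)).imp And.left And.left
      · rw [Finset.disjoint_left]
        intro y hy hy'
        simp only [Finset.mem_filter, Finset.mem_univ, true_and] at hy hy'
        have hya : a ≠ y := fun e' => by subst e'; exact hirr _ hy
        rcases hall a y hya with ⟨-, h⟩ | ⟨-, h⟩
        · exact h hy'
        · exact h hy
    omega
  · have hcount : Nat.card {z : Ω // Orb G a b a z ∧ Orb G a b b z} = lam := by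
      rw [hlam, Nat.card_eq_fintype_card, Fintype.card_subtype]
      simp only [hN]
      congr 1
      ext z
      simp only [Finset.mem_filter, Finset.mem_univ, true_and]
      exact ⟨fun h => ⟨h.1, orb_symm hsb h.2⟩, fun h => ⟨h.1, orb_symm hsb h.2⟩⟩
    rw [hcount]
    linear_combination 2 * e1 - 2 * e2 + 2 * hr - hquad

/-- The parameters. -/
theorem rankThree [FaithfulSMul G Ω] (hΩ : Nat.card Ω = 3 * p) (hu : orderOf u = p)
    (hfree : ∀ x : Ω, u • x ≠ x) (h2 : 2 ∣ Nat.card G) (hne : χ ≠ θ)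
    (hχ : (χ : G → ℂ) ≠ fun _ => 1) (hθ : (θ : G → ℂ) ≠ fun _ => 1)
    (hπ : ∀ g, permChar G Ω g = 1 + (χ : G → ℂ) g + (θ : G → ℂ) g)
    (hχ1 : (χ : G → ℂ) 1 = ((2 * p - 1 : ℕ) : ℂ)) (hθ1 : (θ : G → ℂ) 1 = p)
    (hχu : (χ : G → ℂ) u = -1) (hθu : (θ : G → ℂ) u = 0) : RankThreeData G Ω p := by
  classical
  obtain ⟨a, b, c, hab, hac, hsb, hsc, hall⟩ := exists_orbitals (p := p) hΩ h2 hne hχ hθ hπ
  have hdvd : ∀ b' : Ω, p ∣ Nat.card {z : Ω // Orb G a b' z (u • z)} := by
    intro b'
    rw [Nat.card_eq_fintype_card, Fintype.card_subtype]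
    have h := card_dvd_of_free (Subgroup.zpowers u) (Finset.univ.filter fun z => Orb G a b' z (u • z))
      (fun w hw z hz => by
        simp only [Finset.mem_filter, Finset.mem_univ, true_and] at hz ⊢
        obtain ⟨i, rfl⟩ := Subgroup.mem_zpowers_iff.1 hw
        rw [← mul_smul, ((Commute.refl u).zpow_right i).eq, mul_smul]
        exact (orb_smul _ _ _ _ _).2 hz)
      (fun w hw z _ hwz => by
        by_contra hw1
        have hwo : orderOf w = p := by
          have hd : orderOf w ∣ p := by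
            rw [← hu]
            exact (Subgroup.orderOf_dvd_natCard _ hw).trans (Nat.card_zpowers u).dvd
          exact ((Nat.dvd_prime hp.out).1 hd).resolve_left fun e' => hw1 (orderOf_eq_one_iff.1 e')
        have heq : Subgroup.zpowers w = Subgroup.zpowers u := Subgroup.eq_of_le_of_card_ge
          (Subgroup.zpowers_le.2 hw) (by rw [Nat.card_zpowers, Nat.card_zpowers, hwo, hu])
        have hle : Subgroup.zpowers w ≤ stabilizer G z := Subgroup.zpowers_le.2 hwz
        exact hfree z (hle (heq ▸ Subgroup.mem_zpowers u)))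
    rwa [Nat.card_zpowers, hu] at h
  obtain ⟨jb, hjb⟩ := hdvd b
  obtain ⟨jc, hjc⟩ := hdvd c
  have hsum : jb + jc = 3 := by
    have h : Nat.card {z : Ω // Orb G a b z (u • z)} + Nat.card {z : Ω // Orb G a c z (u • z)} = 3 * p := by
      rw [Nat.card_eq_fintype_card, Nat.card_eq_fintype_card, Fintype.card_subtype, Fintype.card_subtype,
        ← Finset.card_union_of_disjoint, ← hΩ, Nat.card_eq_fintype_card, ← Finset.card_univ]
      · congr 1
        ext z
        simp only [Finset.mem_union, Finset.mem_filter, Finset.mem_univ, true_and, iff_true]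
        exact (hall z (u • z) (hfree z).symm).imp And.left And.left
      · rw [Finset.disjoint_left]
        intro z hz hz'
        simp only [Finset.mem_filter, Finset.mem_univ, true_and] at hz hz'
        rcases hall z (u • z) (hfree z).symm with ⟨-, h⟩ | ⟨-, h⟩
        · exact h hz'
        · exact h hz
    rw [hjb, hjc, ← mul_add, mul_comm 3 p] at h
    exact Nat.eq_of_mul_eq_mul_left hp.out.pos h
  have fin : ∀ b c : Ω, a ≠ b → a ≠ c → Orb G a b b a →
      (∀ x y, x ≠ y → (Orb G a b x y ∧ ¬ Orb G a c x y) ∨ (Orb G a c x y ∧ ¬ Orb G a b x y)) →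
      ∀ j, Nat.card {z : Ω // Orb G a b z (u • z)} = p * j → j ≤ 1 → RankThreeData G Ω p := by
    intro b c hab hac hsb hall j hj hj1
    obtain ⟨r, hr, hk, hl, hcount⟩ := orbital_params hΩ hu hfree hne hπ hχ1 hθ1 hχu hθu hab hac hsb hall hj hj1
    refine ⟨a, b, r, hab, hr, hk, fun d hd hdn => ?_, hsb, hcount⟩
    have hdc : d ∈ orbit (stabilizer G a) c := (orb_base_iff a c d).1
      ((hall a d (Ne.symm hd)).resolve_left fun h => hdn ((orb_base_iff a b d).1 h.1)).1
    rw [orbit_eq_iff.2 hdc]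
    exact hl
  rcases (by omega : jb ≤ 1 ∨ jc ≤ 1) with h | h
  · exact fin b c hab hac hsb hall jb hjb h
  · exact fin c b hac hab hsc (fun x y hxy => (hall x y hxy).symm) jc hjc h

end CfsgLib.Perm.ThreeP
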