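import Cfsg.Agent.Lib.Perm.ThreeP.Exc
import Cfsg.Agent.Lib.Invol.ClassSign
import Cfsg.Agent.Lib.CIT.ThreeSizes.Chars
import Mathlib.GroupTheory.Transfer

/-!
# A simple transitive group of degree `3p` with Sylow normalizer of order `2p`: the setting
-/

set_option autoImplicit false
set_option linter.unusedSectionVars false

namespace CfsgLib.Perm.ThreeP

open Cfsg CfsgLib.Char MulAction

universe u v

variable {G : Type u} [Group G] [Fintype G] {p : ℕ} [hp : Fact p.Prime]

/-- The standing hypothesis. -/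
structure Ctx (p : ℕ) (P : Subgroup G) (t : G) (Ω : Type v) : Prop where
  self : SelfTwo p P t
  card : Nat.card Ω = 3 * p
  sq : ¬ p ^ 2 ∣ Nat.card G
  nonab : ¬ IsMulCommutative G

theorem noIndexTwo [IsSimpleGroup G] (hna : ¬ IsMulCommutative G) (H : Subgroup G) : H.index ≠ 2 := by
  intro h
  haveI := Subgroup.normal_of_index_eq_two h
  rcases (inferInstance : H.Normal).eq_bot_or_eq_top with e | e
  · rw [e, Subgroup.index_bot] at h
    haveI : Fact (Nat.Prime 2) := ⟨Nat.prime_two⟩
    exact hna ((isCyclic_of_prime_card h).isMulCommutative)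
  · rw [e, Subgroup.index_top] at h
    omega

/-- The data on the normalizer of a Sylow subgroup. -/
theorem exists_selfTwo [IsSimpleGroup G] (hna : ¬ IsMulCommutative G) (h3 : 3 < p) (P : Sylow p G)
    (hdvd : p ∣ Nat.card G)
    (hN : Nat.card (Subgroup.normalizer ((P : Subgroup G) : Set G)) = 2 * p) :
    ∃ t : G, SelfTwo p (P : Subgroup G) t ∧ ¬ p ^ 2 ∣ Nat.card G := by
  classical
  have hp5 : 5 ≤ p := by
    rcases Nat.lt_or_ge p 5 with hlt | h
    · interval_cases p
      exact absurd hp.out (by norm_num)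
    · exact h
  have hcop : Nat.Coprime p 2 :=
    hp.out.coprime_iff_not_dvd.2 fun hd => by have := Nat.le_of_dvd two_pos hd; omega
  have hk := P.card_eq_multiplicity
  have hk1 : 1 ≤ (Nat.card G).factorization p :=
    (hp.out.dvd_iff_one_le_factorization Nat.card_pos.ne').1 hdvd
  have hd2 : p ^ (Nat.card G).factorization p ∣ 2 * p := by
    rw [← hk, ← hN]
    exact Subgroup.card_dvd_of_le Subgroup.le_normalizer
  have hk2 : (Nat.card G).factorization p = 1 := by
    by_contra hne
    have h2 : p ^ 2 ∣ 2 * p := (pow_dvd_pow p (by omega)).trans hd2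
    rw [sq, Nat.mul_dvd_mul_iff_right hp.out.pos] at h2
    have := Nat.le_of_dvd two_pos h2
    omega
  have hP : Nat.card (P : Subgroup G) = p := by rw [hk, hk2, pow_one]
  have hsq : ¬ p ^ 2 ∣ Nat.card G := fun h => by
    have := (hp.out.pow_dvd_iff_le_factorization Nat.card_pos.ne').1 h
    omega
  haveI : IsCyclic (P : Subgroup G) := isCyclic_of_prime_card hP
  set N := Subgroup.normalizer ((P : Subgroup G) : Set G) with hNdef
  have hPC : (P : Subgroup G) ≤ Subgroup.centralizer ((P : Subgroup G) : Set G) := fun x hx =>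
    Subgroup.mem_centralizer_iff.2 fun y hy => by
      haveI := (IsCyclic.isMulCommutative : IsMulCommutative (P : Subgroup G))
      exact congrArg Subtype.val (IsMulCommutative.is_comm.comm (⟨y, hy⟩ : (P : Subgroup G)) ⟨x, hx⟩)
  have hCN : Subgroup.centralizer ((P : Subgroup G) : Set G) ≤ N := by
    intro x hx
    refine Subgroup.mem_normalizer_iff.2 fun v => ⟨fun hv => ?_, fun hv => ?_⟩
    · rw [← Subgroup.mem_centralizer_iff.1 hx v hv, mul_inv_cancel_right]; exact hv
    · have h := Subgroup.mem_centralizer_iff.1 hx _ hv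
      rw [inv_mul_cancel_right] at h
      have : x * v * x⁻¹ = v := mul_left_cancel (h.symm.trans (by group))
      rwa [← this]
  have hne : Subgroup.centralizer ((P : Subgroup G) : Set G) ≠ N := by
    intro e
    have hc := MonoidHom.ker_transferSylow_isComplement' P (e.symm.le)
    rcases (MonoidHom.transferSylow P e.symm.le).normal_ker.eq_bot_or_eq_top with hb | ht
    · rw [hb, Subgroup.isComplement'_bot_left] at hc
      refine hna ⟨⟨fun a b => ?_⟩⟩
      haveI := (IsCyclic.isMulCommutative : IsMulCommutative (P : Subgroup G))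
      exact congrArg Subtype.val (IsMulCommutative.is_comm.comm
        (⟨a, hc.symm ▸ Subgroup.mem_top a⟩ : (P : Subgroup G)) ⟨b, hc.symm ▸ Subgroup.mem_top b⟩)
    · rw [ht, Subgroup.isComplement'_top_left] at hc
      rw [hc, Subgroup.card_bot] at hP
      omega
  have hC : Subgroup.centralizer ((P : Subgroup G) : Set G) = P := by
    refine (Subgroup.eq_of_le_of_card_ge hPC ?_).symm
    have h1 : Nat.card (Subgroup.centralizer ((P : Subgroup G) : Set G)) ∣ 2 * p :=
      hN ▸ Subgroup.card_dvd_of_le hCN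
    have h2 := Subgroup.card_dvd_of_le hPC
    rw [hP] at h2 ⊢
    obtain ⟨k, hk'⟩ := h2
    rw [hk', mul_comm 2 p, Nat.mul_dvd_mul_iff_left hp.out.pos] at h1
    rcases (Nat.dvd_prime Nat.prime_two).1 h1 with e | e
    · rw [hk', e, mul_one]
    · refine absurd (Subgroup.eq_of_le_of_card_ge hCN ?_) hne
      rw [hk', e, hN]; omega
  have hcent : ∀ u ∈ (P : Subgroup G), u ≠ 1 → Subgroup.centralizer ({u} : Set G) = P := by
    intro u hu h1
    have hz : Subgroup.zpowers u = (P : Subgroup G) := by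
      refine Subgroup.eq_of_le_of_card_ge (Subgroup.zpowers_le.2 hu) ?_
      rw [Nat.card_zpowers, hP, ((Nat.dvd_prime hp.out).1 (hP ▸ Subgroup.orderOf_dvd_natCard _ hu)).resolve_left
        fun e => h1 (orderOf_eq_one_iff.1 e)]
    have h : Subgroup.centralizer ({u} : Set G) = Subgroup.centralizer ((P : Subgroup G) : Set G) := by
      rw [← hz]
      ext x
      simp only [Subgroup.mem_centralizer_iff, Set.mem_singleton_iff, forall_eq, SetLike.mem_coe]
      refine ⟨fun hx y hy => ?_, fun hx => hx u (Subgroup.mem_zpowers u)⟩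
      obtain ⟨k, rfl⟩ := Subgroup.mem_zpowers_iff.1 hy
      exact (show Commute u x from hx).zpow_left k
    rw [h, hC]
  haveI : Fact (Nat.Prime 2) := ⟨Nat.prime_two⟩
  obtain ⟨t', ht'⟩ := exists_prime_orderOf_dvd_card' (G := N) 2 (by rw [hN]; exact dvd_mul_right 2 p)
  have ht2 : orderOf (t' : G) = 2 := by rw [Subgroup.orderOf_coe, ht']
  have htt : (t' : G) * t' = 1 := by rw [← sq, ← ht2, pow_orderOf_eq_one]
  have htP : (t' : G) ∉ (P : Subgroup G) := fun h => by
    have := Subgroup.orderOf_dvd_natCard _ h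
    rw [ht2, hP] at this
    exact absurd ((Nat.prime_dvd_prime_iff_eq Nat.prime_two hp.out).1 this) (by omega)
  have hinv : (t' : G)⁻¹ = t' := inv_eq_of_mul_eq_one_right htt
  have hflip : ∀ u ∈ (P : Subgroup G), (t' : G) * u * (t' : G)⁻¹ = u⁻¹ := by
    intro u hu
    set w : G := (t' : G) * u * (t' : G)⁻¹ with hw
    have hwP : w ∈ (P : Subgroup G) := (Subgroup.mem_normalizer_iff.1 t'.2 u).1 hu
    have hcom : u * w = w * u := Subgroup.mem_centralizer_iff.1 (hPC hwP) u hu
    have htw : (t' : G) * w * (t' : G)⁻¹ = u := by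
      rw [hw, hinv]
      calc (t' : G) * (t' * u * t') * t' = (t' * t') * u * (t' * t') := by simp only [mul_assoc]
        _ = u := by rw [htt, one_mul, mul_one]
    by_contra hne'
    have hv1 : u * w ≠ 1 := fun e => hne' (eq_inv_of_mul_eq_one_right e)
    refine htP ((hcent _ (mul_mem hu hwP) hv1) ▸ Subgroup.mem_centralizer_singleton_iff.2 ?_)
    have : (t' : G) * (u * w) * (t' : G)⁻¹ = u * w := by rw [← conj_mul, ← hw, htw, hcom]
    rw [mul_inv_eq_iff_eq_mul] at this
    exact this
  refine ⟨t', ⟨hp5, hP, hcent, htt, htP, hflip, fun x hx => ?_⟩, hsq⟩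
  have hidx : ((P : Subgroup G).subgroupOf N).index = 2 := by
    have h := ((P : Subgroup G).subgroupOf N).card_mul_index
    rw [Nat.card_congr (Subgroup.subgroupOfEquivOfLe Subgroup.le_normalizer).toEquiv, hP, hN, mul_comm 2 p] at h
    exact Nat.eq_of_mul_eq_mul_left hp.out.pos h
  have h := Subgroup.mul_mem_iff_of_index_two hidx (a := (⟨x, hx⟩ : N)) (b := t')
  simp only [Subgroup.mem_subgroupOf, Subgroup.coe_mul] at h
  by_cases hxP : x ∈ (P : Subgroup G)
  · exact Or.inl hxP
  · exact Or.inr (h.2 (iff_of_false hxP htP))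

section ctx

variable [IsSimpleGroup G] {Ω : Type v} [Fintype Ω] [MulAction G Ω] [FaithfulSMul G Ω]
  [IsPretransitive G Ω] {P : Subgroup G} {t : G}

namespace Ctx

variable (h : Ctx p P t Ω)
include h

theorem no_fix {u : G} (hu : u ∈ P) (h1 : u ≠ 1) (x : Ω) : u • x ≠ x := by
  intro hx
  have hstab : P ≤ stabilizer G x := by
    rw [← (h.self.zpowers_eq hu h1).1]
    exact Subgroup.zpowers_le.2 hx
  have h2 := (stabilizer G x).card_mul_index
  rw [index_stabilizer_of_transitive, h.card] at h2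
  refine h.sq ⟨Nat.card (stabilizer G x) / p * 3, ?_⟩
  obtain ⟨k, hk⟩ := h.self.card ▸ Subgroup.card_dvd_of_le hstab
  rw [← h2, hk, Nat.mul_div_cancel_left k hp.out.pos]
  ring

theorem perm_zero {u : G} (hu : u ∈ P) (h1 : u ≠ 1) : permChar G Ω u = 0 := by
  have : IsEmpty (fixedBy Ω u) := ⟨fun x => h.no_fix hu h1 x.1 x.2⟩
  simp [permChar]

omit [FaithfulSMul G Ω] in
theorem perm_one : permChar G Ω (1 : G) = 3 * (p : ℂ) := by
  simp [permChar, ← Nat.card_eq_fintype_card, h.card]

/-- The number of fixed points of `g`. -/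
theorem perm_eq (g : G) : permChar G Ω g = ((Nat.card {x : Ω // g • x = x} : ℕ) : ℂ) := rfl

theorem fix_mod_four {s : G} (hs : s * s = 1) : Nat.card {x : Ω // s • x = x} % 4 = 3 * p % 4 := by
  rw [← CfsgLib.Invol.ClassSign.card_mod_four (noIndexTwo h.nonab) hs, h.card]

theorem fix_t_le : Nat.card {x : Ω // t • x = x} ≤ 3 := by
  have hinj : Function.Injective
      (fun q : P × {x : Ω // t • x = x} => (q.1 : G) • (q.2 : Ω)) := by
    rintro ⟨u, x, hx⟩ ⟨v, y, hy⟩ e
    simp only at e
    have hw : (((v⁻¹ * u : P)) : G) • x = y := by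
      rw [Subgroup.coe_mul, mul_smul, e, Subgroup.coe_inv, inv_smul_smul]
    have h2 : ((v⁻¹ * u : P) : G) = 1 := by
      set w : G := ((v⁻¹ * u : P) : G) with hwdef
      have hwP : w ∈ P := (v⁻¹ * u : P).2
      have h3 : (t * w * t⁻¹) • x = y := by
        rw [mul_smul, mul_smul, inv_smul_eq_iff.2 hx.symm, hw, hy]
      rw [h.self.t_inv w hwP, inv_smul_eq_iff] at h3
      have h4 : (w * w) • x = x := by rw [mul_smul, hw, ← h3]
      by_contra hne
      have h5 : w * w ≠ 1 := by
        intro h6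
        have := orderOf_dvd_of_pow_eq_one (show w ^ 2 = 1 by rw [_root_.sq, h6])
        rw [(h.self.zpowers_eq hwP hne).2] at this
        have := Nat.le_of_dvd two_pos this
        have := h.self.five
        omega
      exact h.no_fix (mul_mem hwP hwP) h5 x h4
    have huv : u = v := Subtype.ext (by
      rw [Subgroup.coe_mul, Subgroup.coe_inv, inv_mul_eq_one] at h2
      exact h2.symm)
    subst huv
    exact Prod.ext rfl (Subtype.ext (smul_left_cancel _ e))
  have hle := Nat.card_le_card_of_injective _ hinj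
  rw [Nat.card_prod, h.self.card, h.card, mul_comm 3 p] at hle
  exact Nat.le_of_mul_le_mul_left hle hp.out.pos

/-- An involution in the normalizer fixes one point or three. -/
theorem fix_t :
    (Nat.card {x : Ω // t • x = x} = 1 ∧ p % 4 = 3) ∨ (Nat.card {x : Ω // t • x = x} = 3 ∧ p % 4 = 1) := by
  have h1 := h.fix_mod_four h.self.t_mul
  have h2 := h.fix_t_le
  have h3 : p % 2 = 1 := hp.out.eq_two_or_odd.resolve_left h.self.p_ne_two
  rcases Nat.lt_or_ge (Nat.card {x : Ω // t • x = x}) 2 with _ | _ <;> omega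

omit [FaithfulSMul G Ω] [IsPretransitive G Ω] in
theorem isConj_t {x : G} (hx : x ∈ Subgroup.normalizer (P : Set G)) (hxP : x ∉ P) : IsConj t x := by
  have hv : x * t ∈ P := (h.self.norm x hx).resolve_left hxP
  have hp2 : Odd p := hp.out.odd_of_ne_two h.self.p_ne_two
  obtain ⟨j, hj⟩ := hp2
  refine isConj_iff.2 ⟨(x * t) ^ (j + 1), ?_⟩
  have hw : (x * t) ^ (j + 1) ∈ P := pow_mem hv _
  have e1 : t * ((x * t) ^ (j + 1))⁻¹ = (x * t) ^ (j + 1) * t := by
    have := h.self.t_inv _ (inv_mem hw)
    rw [inv_inv, mul_inv_eq_iff_eq_mul] at this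
    exact this
  rw [mul_assoc, e1, ← mul_assoc, ← pow_add, show j + 1 + (j + 1) = 2 * j + 1 + 1 by omega, ← hj, pow_succ,
    show (x * t) ^ p = 1 by
      rw [← h.self.card]
      exact congrArg Subtype.val (pow_card_eq_one' (x := (⟨x * t, hv⟩ : P))),
    one_mul, mul_assoc, h.self.t_mul, mul_one]

omit [FaithfulSMul G Ω] [IsPretransitive G Ω] in
theorem factor_mem {s x y u : G} (hs : s * s = 1) (hx : IsConj s x) (hy : IsConj s y) (hu : u ∈ P)
    (h1 : u ≠ 1) (hxy : x * y = u) : x ∈ Subgroup.normalizer (P : Set G) := by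
  have sqz : ∀ z : G, IsConj s z → z⁻¹ = z := fun z hz => by
    obtain ⟨k, rfl⟩ := isConj_iff.1 hz
    refine inv_eq_of_mul_eq_one_right ?_
    calc k * s * k⁻¹ * (k * s * k⁻¹) = k * (s * s) * k⁻¹ := by group
      _ = 1 := by rw [hs]; group
  have hxu : x * u * x⁻¹ = u⁻¹ := by
    rw [← hxy, mul_inv_rev, sqz x hx, sqz y hy]
    have hxx : x * x = 1 := by nth_rewrite 2 [← sqz x hx]; exact mul_inv_cancel x
    rw [← mul_assoc, hxx, one_mul]
  have hz := (h.self.zpowers_eq hu h1).1
  rw [Subgroup.mem_normalizer_iff]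
  intro v
  constructor <;> intro hv
  · obtain ⟨k, rfl⟩ := Subgroup.mem_zpowers_iff.1 (hz ▸ hv)
    rw [← conj_zpow, hxu]
    exact zpow_mem (inv_mem hu) k
  · obtain ⟨k, hk⟩ := Subgroup.mem_zpowers_iff.1 (hz ▸ hv)
    have hxu' : x⁻¹ * u * x = u⁻¹ := by
      rw [sqz x hx]
      nth_rewrite 2 [← sqz x hx]
      exact hxu
    have : v = (x⁻¹ * u * x) ^ k := by
      have h3 := conj_zpow (a := x⁻¹) (b := u) (i := k)
      rw [inv_inv] at h3
      rw [h3, hk]
      group
    rw [this, hxu']
    exact zpow_mem (inv_mem hu) k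

omit [FaithfulSMul G Ω] [IsPretransitive G Ω] in
theorem classConst_t {u : G} (hu : u ∈ P) (h1 : u ≠ 1) : classConst t t u = p := by
  rw [classConst, ← h.self.card]
  refine (Nat.card_eq_of_bijective (fun v : P => (⟨((v : G) * t, (v : G) * t * u), ?_, ?_, ?_⟩ :
    {q : G × G // IsConj t q.1 ∧ IsConj t q.2 ∧ q.1 * q.2 = u})) ⟨?_, ?_⟩).symm
  · refine h.isConj_t ?_ fun hm => h.self.t_not ((P.mul_mem_cancel_left v.2).1 hm)
    refine mul_mem (Subgroup.le_normalizer v.2) ?_
    refine Subgroup.mem_normalizer_iff.2 fun w => ⟨fun hw => by rw [h.self.t_inv w hw]; exact inv_mem hw,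
      fun hw => ?_⟩
    have ht : t⁻¹ = t := inv_eq_of_mul_eq_one_right h.self.t_mul
    have e : t * (t * w * t⁻¹) * t⁻¹ = w := by
      rw [ht]
      calc t * (t * w * t) * t = (t * t) * w * (t * t) := by simp only [mul_assoc]
        _ = w := by rw [h.self.t_mul, one_mul, mul_one]
    rw [← e, h.self.t_inv _ hw]
    exact inv_mem hw
  · have e1 : t * u = u⁻¹ * t := by
      have := h.self.t_inv u hu
      rw [mul_inv_eq_iff_eq_mul] at this
      exact this
    have e : (v : G) * t * u = ((v : G) * u⁻¹) * t := by rw [mul_assoc, e1, mul_assoc]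
    rw [e]
    have hm : (v : G) * u⁻¹ ∈ P := mul_mem v.2 (inv_mem hu)
    refine h.isConj_t ?_ fun hm' => h.self.t_not ((P.mul_mem_cancel_left hm).1 hm')
    refine mul_mem (Subgroup.le_normalizer hm) ?_
    refine Subgroup.mem_normalizer_iff.2 fun w => ⟨fun hw => by rw [h.self.t_inv w hw]; exact inv_mem hw,
      fun hw => ?_⟩
    have ht : t⁻¹ = t := inv_eq_of_mul_eq_one_right h.self.t_mul
    have e' : t * (t * w * t⁻¹) * t⁻¹ = w := by
      rw [ht]
      calc t * (t * w * t) * t = (t * t) * w * (t * t) := by simp only [mul_assoc]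
        _ = w := by rw [h.self.t_mul, one_mul, mul_one]
    rw [← e', h.self.t_inv _ hw]
    exact inv_mem hw
  · show (v : G) * t * ((v : G) * t * u) = u
    have e2 : t * (v : G) = (v : G)⁻¹ * t := by
      have := h.self.t_inv v v.2
      rw [mul_inv_eq_iff_eq_mul] at this
      exact this
    calc (v : G) * t * ((v : G) * t * u) = (v : G) * (t * (v : G)) * t * u := by simp only [mul_assoc]
      _ = (t * t) * u := by rw [e2, mul_inv_cancel_left]
      _ = u := by rw [h.self.t_mul, one_mul]
  · intro v w e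
    exact Subtype.ext (mul_right_cancel (congrArg (fun q => (q.1).1) e))
  · rintro ⟨⟨x, y⟩, hx, hy, hxy⟩
    simp only at hx hy hxy
    have hxN := h.factor_mem h.self.t_mul hx hy hu h1 hxy
    have hxo : orderOf x = 2 := by
      obtain ⟨k, rfl⟩ := isConj_iff.1 hx
      rw [show k * t * k⁻¹ = MulAut.conj k t by simp [MulAut.conj_apply], MulEquiv.orderOf_eq, h.self.orderOf_t]
    have hxP : x ∉ P := fun hm => by
      have := Subgroup.orderOf_dvd_natCard _ hm
      rw [hxo, h.self.card] at this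
      exact h.self.p_ne_two ((Nat.prime_dvd_prime_iff_eq Nat.prime_two hp.out).1 this).symm
    have hv := (h.self.norm x hxN).resolve_left hxP
    refine ⟨⟨x * t, hv⟩, Subtype.ext (Prod.ext ?_ ?_)⟩
    · show x * t * t = x
      rw [mul_assoc, h.self.t_mul, mul_one]
    · show x * t * t * u = y
      have hxx : x * x = 1 := by rw [← _root_.sq, ← hxo, pow_orderOf_eq_one]
      rw [mul_assoc x, h.self.t_mul, mul_one, ← hxy, ← mul_assoc, hxx, one_mul]

end Ctx

end ctx

end CfsgLib.Perm.ThreeP
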