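import Cfsg.Agent.Lib.Perm.ThreeP.Triple
import Mathlib.LinearAlgebra.Trace
import Mathlib.LinearAlgebra.Matrix.ToLin

/-!
# Rank three permutation groups of degree `3p`: the spectrum of an orbital
-/

set_option autoImplicit false
set_option linter.unusedSectionVars false

namespace CfsgLib.Perm.ThreeP.Spectrum

open Cfsg CfsgLib.Char MulAction Matrix

universe u v

variable {G : Type u} [Group G] [Fintype G] {Ω : Type v} [Fintype Ω] [DecidableEq Ω] [MulAction G Ω]

/-- The trace of `g` times an invariant matrix. -/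
noncomputable def trg (M : Matrix Ω Ω ℂ) (g : G) : ℂ := ∑ z, M z (g • z)

/-- The permutation operator. -/
noncomputable def perm (g : G) : (Ω → ℂ) →ₗ[ℂ] (Ω → ℂ) := LinearMap.funLeft ℂ ℂ fun y => g⁻¹ • y

theorem trace_perm_mul (M : Matrix Ω Ω ℂ) (g : G) :
    LinearMap.trace ℂ (Ω → ℂ) (perm g ∘ₗ Matrix.toLin' M) = trg M g := by
  rw [LinearMap.trace_eq_matrix_trace ℂ (Pi.basisFun ℂ Ω), Matrix.trace]
  simp only [Matrix.diag, LinearMap.toMatrix_apply, Pi.basisFun_apply, Pi.basisFun_repr, LinearMap.coe_comp,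
    Function.comp_apply, perm, LinearMap.funLeft_apply, Matrix.toLin'_apply, Matrix.mulVec_single_one, Matrix.col_apply]
  rw [trg, ← Equiv.sum_comp (MulAction.toPerm g) (fun z => M (g⁻¹ • z) z)]
  exact Finset.sum_congr rfl fun z _ => by simp

theorem perm_comm {M : Matrix Ω Ω ℂ} (hM : ∀ (g : G) x y, M (g • x) (g • y) = M x y) (g : G) (v : Ω → ℂ) :
    Matrix.toLin' M (perm g v) = perm g (Matrix.toLin' M v) := by
  funext x
  simp only [perm, LinearMap.funLeft_apply, Matrix.toLin'_apply, Matrix.mulVec, dotProduct]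
  rw [← Equiv.sum_comp (MulAction.toPerm g) (fun y => M x y * v (g⁻¹ • y))]
  refine Finset.sum_congr rfl fun y _ => ?_
  simp only [MulAction.toPerm_apply, inv_smul_smul]
  rw [← hM g⁻¹ x (g • y), inv_smul_smul]

/-- An invariant idempotent gives a character. -/
theorem isCharacter_trg {M : Matrix Ω Ω ℂ} (hM : ∀ (g : G) x y, M (g • x) (g • y) = M x y)
    (hid : M * M = M) (hne : M ≠ 0) : IsCharacter G (trg (G := G) M) ∧ trg (G := G) M 1 ≠ 0 := by
  set E := Matrix.toLin' M with hE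
  have hEE : E ∘ₗ E = E := by rw [hE, ← Matrix.toLin'_mul, hid]
  set V := LinearMap.range E with hV
  have hfix : ∀ v ∈ V, E v = v := by
    rintro v ⟨w, rfl⟩
    exact LinearMap.congr_fun hEE w
  have hinv : ∀ g : G, ∀ v ∈ V, perm g v ∈ V := by
    rintro g v ⟨w, rfl⟩
    exact ⟨perm g w, perm_comm hM g w⟩
  let ρ : Representation ℂ G V :=
    { toFun := fun g => (perm g).restrict (hinv g)
      map_one' := by ext v x; simp [perm, LinearMap.funLeft_apply]
      map_mul' := fun g g' => by ext v x; simp [perm, LinearMap.funLeft_apply, mul_smul] }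
  have hchar : ρ.character = trg (G := G) M := by
    funext g
    have hmem : ∀ v, (perm g ∘ₗ E) v ∈ V := fun v => hinv g _ ⟨v, rfl⟩
    rw [← trace_perm_mul, ← hE,
      ← LinearMap.trace_restrict_eq_of_forall_mem V (perm g ∘ₗ E) hmem]
    show LinearMap.trace ℂ V ((perm g).restrict (hinv g)) = _
    congr 1
    ext v : 1
    apply Subtype.ext
    show perm g v = perm g (E v)
    rw [hfix v v.2]
  refine ⟨hchar ▸ isCharacter_character ρ, ?_⟩
  rw [← hchar, Representation.char_one, Nat.cast_ne_zero]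
  intro h0
  have hbot : V = ⊥ := Submodule.finrank_eq_zero.1 h0
  rw [hV, LinearMap.range_eq_bot, hE, LinearEquiv.map_eq_zero_iff] at hbot
  exact hne hbot

/-- Two characters summing to two distinct irreducible characters. -/
theorem split_two {χ θ : IrrCharacter G} (hne : χ ≠ θ) {A B : G → ℂ} (hA : IsCharacter G A) (hB : IsCharacter G B)
    (hA1 : A 1 ≠ 0) (hB1 : B 1 ≠ 0) (hsum : A + B = (χ : G → ℂ) + θ) :
    (A = (χ : G → ℂ) ∧ B = (θ : G → ℂ)) ∨ (A = (θ : G → ℂ) ∧ B = (χ : G → ℂ)) := by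
  classical
  have := Fintype.ofFinite (IrrCharacter G)
  choose m hm using fun ξ : IrrCharacter G => classInner_char_irr_nat hA ξ
  choose n hn using fun ξ : IrrCharacter G => classInner_char_irr_nat hB ξ
  have hmn : ∀ ξ, m ξ + n ξ = (if χ = ξ then 1 else 0) + (if θ = ξ then 1 else 0) := fun ξ => by
    have h := congrArg (fun F => classInner F (ξ : G → ℂ)) hsum
    simp only [classInner_add_left, hm, hn, classInner_irr] at h
    apply Nat.cast_injective (R := ℂ)
    push_cast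
    exact h
  have hexp : ∀ (F : G → ℂ) (k : IrrCharacter G → ℕ), IsCharacter G F →
      (∀ ξ : IrrCharacter G, classInner F (ξ : G → ℂ) = k ξ) → (∀ ξ, ξ ≠ χ → ξ ≠ θ → k ξ = 0) →
      F = (k χ : ℂ) • (χ : G → ℂ) + (k θ : ℂ) • (θ : G → ℂ) := by
    intro F k hF hk h0
    conv_lhs => rw [classFun_expand (isClassFunction_of_isCharacter hF)]
    rw [← Finset.sum_subset (Finset.subset_univ {χ, θ}) (fun ξ _ hξ => by
      simp only [Finset.mem_insert, Finset.mem_singleton, not_or] at hξ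
      rw [hk, h0 ξ hξ.1 hξ.2, Nat.cast_zero, zero_smul]), Finset.sum_pair hne, hk, hk]
  have h0 : ∀ ξ, ξ ≠ χ → ξ ≠ θ → m ξ = 0 ∧ n ξ = 0 := fun ξ h1 h2 => by
    have := hmn ξ
    rw [if_neg (Ne.symm h1), if_neg (Ne.symm h2)] at this
    omega
  have eA := hexp A m hA hm fun ξ h1 h2 => (h0 ξ h1 h2).1
  have eB := hexp B n hB hn fun ξ h1 h2 => (h0 ξ h1 h2).2
  have hχ := hmn χ
  have hθ := hmn θ
  rw [if_pos rfl, if_neg hne.symm] at hχ
  rw [if_neg hne, if_pos rfl] at hθ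
  rcases (by omega : (m χ = 0 ∧ n χ = 1) ∨ (m χ = 1 ∧ n χ = 0)) with ⟨a1, a2⟩ | ⟨a1, a2⟩ <;>
    rcases (by omega : (m θ = 0 ∧ n θ = 1) ∨ (m θ = 1 ∧ n θ = 0)) with ⟨b1, b2⟩ | ⟨b1, b2⟩ <;>
      simp only [a1, a2, b1, b2, Nat.cast_zero, Nat.cast_one, zero_smul, one_smul, zero_add, add_zero] at eA eB
  · exact absurd (by rw [eA]; rfl) hA1
  · exact Or.inr ⟨eA, eB⟩
  · exact Or.inl ⟨eA, eB⟩
  · exact absurd (by rw [eB]; rfl) hB1

/-- The spectrum of an invariant graph. -/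
theorem eigen {A : Matrix Ω Ω ℂ} (hA : ∀ (g : G) x y, A (g • x) (g • y) = A x y) {k lam mu : ℂ}
    {n : ℕ} (hn : Fintype.card Ω = n) (hn0 : n ≠ 0)
    (hAJ : A * Matrix.of (fun _ _ => 1) = k • Matrix.of (fun _ _ => 1))
    (hJA : Matrix.of (fun _ _ => (1 : ℂ)) * A = k • Matrix.of (fun _ _ => 1))
    (hsq : A * A = (k - mu) • (1 : Matrix Ω Ω ℂ) + (lam - mu) • A + mu • Matrix.of (fun _ _ => 1))
    (hid : k * k = (k - mu) + (lam - mu) * k + mu * n)
    (hdisc : (lam - mu) ^ 2 + 4 * (k - mu) ≠ 0) {a b c : Ω} (hbc : a ≠ b ∧ a ≠ c) (hab : A a b = 1)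
    (hac : A a c = 0) {χ θ : IrrCharacter G} (hne : χ ≠ θ)
    (hπ : ∀ g, permChar G Ω g = 1 + (χ : G → ℂ) g + (θ : G → ℂ) g) :
    ∃ x y : ℂ, x + y = lam - mu ∧ x * y = -(k - mu) ∧
      ∀ g, trg A g = k + x * (χ : G → ℂ) g + y * (θ : G → ℂ) g := by
  obtain ⟨sq, hsq'⟩ := IsAlgClosed.exists_eq_mul_self ((lam - mu) ^ 2 + 4 * (k - mu))
  have hsq0 : sq ≠ 0 := fun e' => hdisc (by rw [hsq', e', mul_zero])
  set J : Matrix Ω Ω ℂ := Matrix.of (fun _ _ => 1) with hJ
  have hJJ : J * J = (n : ℂ) • J := by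
    ext x y
    simp [hJ, Matrix.mul_apply, hn]
  set x1 := ((lam - mu) + sq) / 2 with hx1
  set x2 := ((lam - mu) - sq) / 2 with hx2
  have hne' : (n : ℂ) ≠ 0 := Nat.cast_ne_zero.2 hn0
  have idem : ∀ s z w : ℂ, s ≠ 0 → z + w = lam - mu → z * w = -(k - mu) → z - w = s →
      (s⁻¹ • (A - w • (1 : Matrix Ω Ω ℂ) - ((k - w) / n) • J)) *
        (s⁻¹ • (A - w • (1 : Matrix Ω Ω ℂ) - ((k - w) / n) • J)) =
        s⁻¹ • (A - w • (1 : Matrix Ω Ω ℂ) - ((k - w) / n) • J) := by
    intro s z w hs hzw hzw' hd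
    set c := (k - w) / n with hc
    have hcn : c * n = k - w := div_mul_cancel₀ _ hne'
    have key : (A - w • (1 : Matrix Ω Ω ℂ) - c • J) * (A - w • (1 : Matrix Ω Ω ℂ) - c • J) =
        s • (A - w • (1 : Matrix Ω Ω ℂ) - c • J) := by
      simp only [sub_mul, mul_sub, smul_mul_assoc, mul_smul_comm, one_mul, mul_one, hAJ, hJA, hJJ, hsq]
      rw [← hd]
      have e1 : k - mu = -(z * w) := by rw [hzw']; ring
      have e3 : mu = c * c * n - (z - w) * c := by
        refine mul_right_cancel₀ hne' ?_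
        have h1 : mu * n = k * k - (z + w) * k + z * w := by rw [hzw, hzw']; linear_combination -hid
        rw [h1]
        linear_combination (-(c * n) - (k - w) + (z - w)) * hcn
      rw [e1, ← hzw]
      match_scalars
      · ring
      · ring
      · linear_combination e3 + (2 * c) * hcn
    rw [smul_mul_smul_comm, key, smul_smul]
    congr 1
    field_simp
  have hs1 : x1 + x2 = lam - mu := by rw [hx1, hx2]; ring
  have hs2 : x1 * x2 = -(k - mu) := by rw [hx1, hx2]; linear_combination (1 / 4 : ℂ) * hsq'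
  have hd12 : x1 - x2 = sq := by rw [hx1, hx2]; ring
  set E1 := sq⁻¹ • (A - x2 • (1 : Matrix Ω Ω ℂ) - ((k - x2) / n) • J) with hE1
  set E2 := (-sq)⁻¹ • (A - x1 • (1 : Matrix Ω Ω ℂ) - ((k - x1) / n) • J) with hE2
  have inv : ∀ (s w : ℂ) (g : G) x y,
      (s • (A - w • (1 : Matrix Ω Ω ℂ) - ((k - w) / n) • J)) (g • x) (g • y) =
        (s • (A - w • (1 : Matrix Ω Ω ℂ) - ((k - w) / n) • J)) x y := by
    intro s w g x y
    simp only [Matrix.smul_apply, Matrix.sub_apply, Matrix.one_apply, hA, hJ, Matrix.of_apply, smul_left_cancel_iff]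
  have nz : ∀ s w : ℂ, s ≠ 0 → s • (A - w • (1 : Matrix Ω Ω ℂ) - ((k - w) / n) • J) ≠ 0 := by
    intro s w hs e'
    rw [smul_eq_zero] at e'
    have e'' := e'.resolve_left hs
    have h1 := congrFun (congrFun e'' a) b
    have h2 := congrFun (congrFun e'' a) c
    simp [hJ, hab, hac, hbc.1, hbc.2] at h1 h2
    rcases h2 with h2 | h2
    · rw [h2] at h1; simp at h1
    · exact hn0 h2
  obtain ⟨c1, c1'⟩ := isCharacter_trg (G := G) (inv sq⁻¹ x2) (idem sq x1 x2 hsq0 hs1 hs2 hd12) (nz _ _ (inv_ne_zero hsq0))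
  obtain ⟨c2, c2'⟩ := isCharacter_trg (G := G) (inv (-sq)⁻¹ x1)
    (idem (-sq) x2 x1 (neg_ne_zero.2 hsq0) (by rw [add_comm]; exact hs1) (by rw [mul_comm]; exact hs2)
      (by rw [← hd12]; ring)) (nz _ _ (inv_ne_zero (neg_ne_zero.2 hsq0)))
  have hone : ∀ g : G, (∑ z, (1 : Matrix Ω Ω ℂ) z (g • z)) = permChar G Ω g := fun g => by
    simp only [Matrix.one_apply, Finset.sum_boole, permChar, Nat.card_eq_fintype_card, Fintype.card_subtype]
    congr 2
    ext z
    simp [MulAction.mem_fixedBy, eq_comm]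
  have htr : ∀ (s w : ℂ) (g : G), trg (s • (A - w • (1 : Matrix Ω Ω ℂ) - ((k - w) / n) • J)) g =
      s * (trg A g - w * permChar G Ω g - (k - w)) := by
    intro s w g
    simp only [trg, Matrix.smul_apply, Matrix.sub_apply, smul_eq_mul, ← Finset.mul_sum, Finset.sum_sub_distrib, hone]
    simp only [hJ, Matrix.of_apply, Finset.sum_const, Finset.card_univ, hn, nsmul_eq_mul, mul_one]
    field_simp
  have hsum : trg (G := G) E1 + trg (G := G) E2 = (χ : G → ℂ) + θ := by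
    funext g
    rw [Pi.add_apply, hE1, hE2, htr, htr, Pi.add_apply, hπ g, ← hd12]
    have : x1 - x2 ≠ 0 := hd12 ▸ hsq0
    field_simp
    ring
  have hA' : ∀ g, trg A g = k + x1 * trg E1 g + x2 * trg E2 g := fun g => by
    rw [hE1, hE2, htr, htr, ← hd12]
    have : x1 - x2 ≠ 0 := hd12 ▸ hsq0
    field_simp
    ring
  rcases split_two hne c1 c2 c1' c2' hsum with ⟨e1, e2⟩ | ⟨e1, e2⟩
  · exact ⟨x1, x2, hs1, hs2, fun g => by rw [hA' g, hE1, hE2, e1, e2]⟩
  · exact ⟨x2, x1, by rw [add_comm]; exact hs1, by rw [mul_comm]; exact hs2,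
      fun g => by rw [hA' g, hE1, hE2, e1, e2]; ring⟩

end CfsgLib.Perm.ThreeP.Spectrum
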