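import Cfsg.Agent.Lib.Perm.ThreeP.FixOne
import Cfsg.Agent.Lib.CIT.TwoNilp.RankThree
import Cfsg.Agent.Lib.GW.Final
import Cfsg.Agent.Lib.Recog.OrderSix.Second
import Cfsg.Agent.Lib.Walter.Consumers.SylowOrderEight
import Cfsg.Agent.Lib.Fusion.Transfer

/-!
# A simple transitive group of degree `3p`: two-subgroups fixing two points
-/

set_option autoImplicit false
set_option linter.unusedSectionVars false

namespace CfsgLib.Perm.ThreeP

open Cfsg CfsgLib.Char MulAction
open scoped commutatorElement

universe u v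

section

variable {G : Type u} [Group G] [Fintype G] {Ω : Type v} [Fintype Ω] [MulAction G Ω]

/-- An action that is free on an invariant set of points. -/
theorem card_dvd_of_free (T : Subgroup G) (X : Finset Ω) (hinv : ∀ w ∈ T, ∀ x ∈ X, w • x ∈ X)
    (hfree : ∀ w ∈ T, ∀ x ∈ X, w • x = x → w = 1) : Nat.card T ∣ X.card := by
  classical
  letI act : MulAction T {x : Ω // x ∈ X} :=
    { smul := fun w x => ⟨(w : G) • x.1, hinv w w.2 x.1 x.2⟩
      one_smul := fun x => Subtype.ext (one_smul G x.1)
      mul_smul := fun w w' x => Subtype.ext (mul_smul (w : G) (w' : G) x.1) }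
  have hd := Nat.card_congr (MulAction.selfEquivSigmaOrbits T {x : Ω // x ∈ X})
  rw [Nat.card_eq_fintype_card, Fintype.card_coe] at hd
  haveI := Fintype.ofFinite (MulAction.orbitRel.Quotient T {x : Ω // x ∈ X})
  rw [Nat.card_sigma] at hd
  rw [hd]
  refine Finset.dvd_sum fun q _ => ?_
  have hs : stabilizer T q.out = ⊥ := (Subgroup.eq_bot_iff_forall _).2 fun w hw =>
    Subtype.ext (hfree w w.2 q.out.1 q.out.2 (congrArg Subtype.val hw))
  have hi := MulAction.index_stabilizer T q.out
  rw [hs, Subgroup.index_bot] at hi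
  rw [hi, ← Nat.card_coe_set_eq]

end

variable {G : Type u} [Group G] [Fintype G] {p : ℕ} [hp : Fact p.Prime] {P : Subgroup G} {t : G}
  {e : Multiplicative (ZMod p) ≃* P}
  [IsSimpleGroup G] {Ω : Type v} [Fintype Ω] [MulAction G Ω] [FaithfulSMul G Ω] [IsPretransitive G Ω]

namespace Ctx

variable (h : Ctx p P t Ω) (D : Exc p P e)
include h D

/-- A nontrivial two-group fixing two points fixes a third, and its elements fix no other point. -/
theorem third_point {T : Subgroup G} (hT : IsPGroup 2 T) (hT1 : T ≠ ⊥) {a b : Ω} (hab : a ≠ b)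
    (hfix : ∀ w ∈ T, w • a = a ∧ w • b = b) :
    ∃ c, c ≠ a ∧ c ≠ b ∧ (∀ w ∈ T, w • c = c) ∧
      ∀ w ∈ T, w ≠ 1 → ∀ x : Ω, w • x = x → x = a ∨ x = b ∨ x = c := by
  classical
  haveI : Fact (Nat.Prime 2) := ⟨Nat.prime_two⟩
  have hodd : Odd p := hp.out.odd_of_ne_two h.self.p_ne_two
  have hmod := hT.card_modEq_card_fixedPoints Ω
  rw [h.card] at hmod
  obtain ⟨c, hcfix, hca, hcb⟩ : ∃ c, c ∈ fixedPoints T Ω ∧ c ≠ a ∧ c ≠ b := by
    by_contra hno
    push Not at hno
    have hset : fixedPoints T Ω = {a, b} := Set.ext fun x => ⟨fun hx => (em (x = a)).elim Or.inl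
      (fun hxa => Or.inr (hno x hx hxa)), fun hx w => by
        rcases hx with rfl | rfl
        · exact (hfix w w.2).1
        · exact (hfix w w.2).2⟩
    rw [hset, Nat.card_coe_set_eq, Set.ncard_pair hab] at hmod
    obtain ⟨j, hj⟩ := hodd
    unfold Nat.ModEq at hmod
    omega
  refine ⟨c, hca, hcb, fun w hw => hcfix ⟨w, hw⟩, fun w hw hw1 x hx => ?_⟩
  have hz : IsPGroup 2 (Subgroup.zpowers w) := hT.to_le (Subgroup.zpowers_le.2 hw)
  obtain ⟨n, hn⟩ := IsPGroup.iff_card.1 hz
  rw [Nat.card_zpowers] at hn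
  obtain ⟨m, rfl⟩ : ∃ m, n = m + 1 := Nat.exists_eq_succ_of_ne_zero fun e' => hw1 (orderOf_eq_one_iff.1 (by rw [hn, e', pow_zero]))
  set i : G := w ^ 2 ^ m with hidef
  have hio : orderOf i = 2 := by
    rw [hidef, orderOf_pow_of_dvd (pow_ne_zero m two_ne_zero) (hn ▸ pow_dvd_pow 2 (Nat.le_succ m)), hn,
      pow_succ, Nat.mul_div_cancel_left 2 (Nat.two_pow_pos m)]
  have hiT : i ∈ T := pow_mem hw _
  have hix : i • x = x := by
    have : w ∈ stabilizer G x := hx
    exact pow_mem this _
  by_contra hne
  push Not at hne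
  have hsub : ({a, b, c, x} : Finset Ω) ⊆ Finset.univ.filter fun y => i • y = y := by
    intro y hy
    simp only [Finset.mem_insert, Finset.mem_singleton] at hy
    rw [Finset.mem_filter]
    refine ⟨Finset.mem_univ y, ?_⟩
    rcases hy with rfl | rfl | rfl | rfl
    · exact (hfix i hiT).1
    · exact (hfix i hiT).2
    · exact hcfix ⟨i, hiT⟩
    · exact hix
  have h4 : ({a, b, c, x} : Finset Ω).card = 4 := by
    rw [Finset.card_insert_of_notMem (by simp [hab, hca.symm, hne.1.symm]),
      Finset.card_insert_of_notMem (by simp [hcb.symm, hne.2.1.symm]),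
      Finset.card_insert_of_notMem (by simp [hne.2.2.symm]), Finset.card_singleton]
  have := Finset.card_le_card hsub
  rw [h4, ← Fintype.card_subtype, ← Nat.card_eq_fintype_card, h.fix_invol D hio, (h.fix_three D).1] at this
  omega

/-- A two-group of maximal order fixing two given points. -/
theorem exists_two_group (a b : Ω) :
    ∃ T : Subgroup G, (∀ w ∈ T, w • a = a ∧ w • b = b) ∧ IsPGroup 2 T ∧
      Nat.card T = 2 ^ (Nat.card (stabilizer G a ⊓ stabilizer G b : Subgroup G)).factorization 2 := by
  haveI : Fact (Nat.Prime 2) := ⟨Nat.prime_two⟩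
  set K := stabilizer G a ⊓ stabilizer G b with hK
  obtain ⟨R⟩ : Nonempty (Sylow 2 K) := inferInstance
  refine ⟨(R : Subgroup K).map K.subtype, fun w hw => ?_, R.isPGroup'.map _, ?_⟩
  · obtain ⟨x, -, rfl⟩ := Subgroup.mem_map.1 hw
    exact x.2
  · rw [Subgroup.card_map_of_injective K.subtype_injective, R.card_eq_multiplicity]

omit D in
/-- The order of a two point stabilizer. -/
theorem card_pair (a b : Ω) :
    Nat.card (stabilizer G a ⊓ stabilizer G b : Subgroup G) * Nat.card (orbit (stabilizer G a) b) * (3 * p) =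
      Nat.card G := by
  have h2 := (stabilizer G a).card_mul_index
  rw [index_stabilizer_of_transitive, h.card] at h2
  have h1 := (stabilizer (stabilizer G a) b).card_mul_index
  rw [MulAction.index_stabilizer, ← Nat.card_coe_set_eq] at h1
  have e' : Nat.card (stabilizer (stabilizer G a) b) = Nat.card (stabilizer G a ⊓ stabilizer G b : Subgroup G) :=
    Nat.card_congr
      { toFun := fun w => ⟨w.1.1, w.1.2, w.2⟩
        invFun := fun w => ⟨⟨w.1, w.2.1⟩, w.2.2⟩
        left_inv := fun w => rfl
        right_inv := fun w => rfl }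
  rw [← e', h1, h2]

omit D in
/-- The two-adic value of a two point stabilizer. -/
theorem val_pair (a b : Ω) :
    (Nat.card (stabilizer G a ⊓ stabilizer G b : Subgroup G)).factorization 2 +
      (Nat.card (orbit (stabilizer G a) b)).factorization 2 = (Nat.card G).factorization 2 := by
  have hne : Nat.card (orbit (stabilizer G a) b) ≠ 0 := by
    haveI : Nonempty (orbit (stabilizer G a) b) := ⟨⟨b, mem_orbit_self b⟩⟩
    exact Nat.card_pos.ne'
  have h3p : ¬ 2 ∣ 3 * p := by
    obtain ⟨j, hj⟩ := hp.out.odd_of_ne_two h.self.p_ne_two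
    omega
  rw [← h.card_pair a b, Nat.factorization_mul (mul_ne_zero Nat.card_pos.ne' hne) (fun e' => h3p (by rw [e']; exact dvd_zero 2)),
    Nat.factorization_mul Nat.card_pos.ne' hne, Finsupp.coe_add, Pi.add_apply, Finsupp.coe_add, Pi.add_apply,
    Nat.factorization_eq_zero_of_not_dvd h3p, add_zero]

/-- Sylow subgroups of order eight with a four element subgroup fixing two points are dihedral. -/
theorem recognise (hν : (Nat.card G).factorization 2 = 3) {a b : Ω} (hab : a ≠ b)
    (hval : (Nat.card (stabilizer G a ⊓ stabilizer G b : Subgroup G)).factorization 2 = 2) :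
    CfsgLib.GW.IsPSLTwoOrA7 G := by
  classical
  haveI : Fact (Nat.Prime 2) := ⟨Nat.prime_two⟩
  obtain ⟨T, hfix, hT2, hTcard⟩ := h.exists_two_group D a b
  rw [hval, show (2 : ℕ) ^ 2 = 4 by norm_num] at hTcard
  have hT1 : T ≠ ⊥ := fun e' => by rw [e', Subgroup.card_bot] at hTcard; omega
  obtain ⟨c, hca, hcb, hcfix, honly⟩ := h.third_point D hT2 hT1 hab hfix
  -- a Sylow subgroup of the stabilizer of `a` above `T`
  set H := stabilizer G a with hHdef
  have hTH : T ≤ H := fun w hw => (hfix w hw).1
  have hTH2 : IsPGroup 2 (T.subgroupOf H) := hT2.of_equiv (Subgroup.subgroupOfEquivOfLe hTH).symm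
  obtain ⟨R, hR⟩ := hTH2.exists_le_sylow
  set S := (R : Subgroup H).map H.subtype with hSdef
  have hνH : (Nat.card H).factorization 2 = 3 := by
    have h2 := H.card_mul_index
    rw [index_stabilizer_of_transitive, h.card] at h2
    obtain ⟨j, hj⟩ := hp.out.odd_of_ne_two h.self.p_ne_two
    rw [← h2, Nat.factorization_mul Nat.card_pos.ne' (by omega), Finsupp.coe_add, Pi.add_apply,
      Nat.factorization_eq_zero_of_not_dvd (show ¬ 2 ∣ 3 * p by omega), add_zero] at hν
    exact hν
  have hScard : Nat.card S = 8 := by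
    rw [hSdef, Subgroup.card_map_of_injective H.subtype_injective, R.card_eq_multiplicity, hνH]
    norm_num
  have hSa : ∀ s ∈ S, s • a = a := fun s hs => by
    obtain ⟨x, -, rfl⟩ := Subgroup.mem_map.1 hs
    exact x.2
  have hTS : T ≤ S := fun w hw => Subgroup.mem_map.2 ⟨⟨w, hTH hw⟩, hR (Subgroup.mem_subgroupOf.2 hw), rfl⟩
  let P₂ : Sylow 2 G := Sylow.ofCard S (by rw [hScard, hν]; norm_num)
  have hP₂ : (P₂ : Subgroup G) = S := Sylow.coe_ofCard _ _
  -- an involution outside `T` does not centralize `T`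
  have hout : ∀ u ∈ S, orderOf u = 2 → u ∉ T → ∃ w ∈ T, u * w ≠ w * u := by
    intro u hu huo huT
    by_contra hcom
    push Not at hcom
    set X : Finset Ω := (Finset.univ.filter fun x => u • x = x).erase a with hX
    have hXcard : X.card = 2 := by
      rw [hX, Finset.card_erase_of_mem (show a ∈ Finset.univ.filter (fun x => u • x = x) from
          Finset.mem_filter.2 ⟨Finset.mem_univ _, hSa u hu⟩),
        ← Fintype.card_subtype, ← Nat.card_eq_fintype_card, h.fix_invol D huo, (h.fix_three D).1]
    have hub : u • b ≠ b := by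
      intro hb
      have hle : (T ⊔ Subgroup.zpowers u) ≤ stabilizer G a ⊓ stabilizer G b :=
        sup_le (fun w hw => hfix w hw) (Subgroup.zpowers_le.2 ⟨hSa u hu, hb⟩)
      have hSle : (T ⊔ Subgroup.zpowers u) ≤ S := sup_le hTS (Subgroup.zpowers_le.2 hu)
      have hlt : T < T ⊔ Subgroup.zpowers u := lt_of_le_of_ne le_sup_left fun e' =>
        huT (e' ▸ (le_sup_right : Subgroup.zpowers u ≤ _) (Subgroup.mem_zpowers u))
      have hd1 := Subgroup.card_dvd_of_le hlt.le
      have hd2 := Subgroup.card_dvd_of_le hSle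
      rw [hTcard] at hd1
      rw [hScard] at hd2
      have h8 : Nat.card (T ⊔ Subgroup.zpowers u : Subgroup G) = 8 := by
        have h4 : 4 < Nat.card (T ⊔ Subgroup.zpowers u : Subgroup G) := by
          have hle' := Subgroup.card_le_of_le hlt.le
          refine hTcard ▸ lt_of_le_of_ne hle' fun e' => hlt.ne (Subgroup.eq_of_le_of_card_ge hlt.le e'.ge)
        have := Nat.le_of_dvd (by norm_num) hd2
        interval_cases hh : Nat.card (T ⊔ Subgroup.zpowers u : Subgroup G) <;> omega
      have hdd := Subgroup.card_dvd_of_le hle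
      rw [h8, show (8 : ℕ) = 2 ^ 3 by norm_num] at hdd
      have := (Nat.prime_two.pow_dvd_iff_le_factorization Nat.card_pos.ne').1 hdd
      exact absurd (this.trans_eq hval) (by norm_num)
    have hinv : ∀ w ∈ T, ∀ x ∈ X, w • x ∈ X := by
      intro w hw x hx
      rw [hX, Finset.mem_erase, Finset.mem_filter] at hx ⊢
      refine ⟨fun e' => hx.1 (MulAction.injective w (e'.trans (hfix w hw).1.symm)), Finset.mem_univ _, ?_⟩
      rw [← mul_smul, hcom w hw, mul_smul, hx.2.2]
    have hnb : ∀ x ∈ X, x ≠ b ∧ x ≠ c := by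
      intro x hx
      rw [hX, Finset.mem_erase, Finset.mem_filter] at hx
      refine ⟨fun e' => hub (e' ▸ hx.2.2), fun e' => hub ?_⟩
      subst e'
      obtain ⟨w, hw, hw1⟩ := Subgroup.ne_bot_iff_exists_ne_one.1 hT1 |> fun ⟨w, hw⟩ => (⟨w.1, w.2, fun e' => hw (Subtype.ext e')⟩ : ∃ w ∈ T, w ≠ (1 : G))
      have hfix' : w • u • b = u • b := by rw [← mul_smul, ← hcom w hw, mul_smul, (hfix w hw).2]
      rcases honly w hw hw1 _ hfix' with e' | e' | e'
      · exact absurd (MulAction.injective u (e'.trans (hSa u hu).symm)) hab.symm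
      · exact e'
      · exact absurd (MulAction.injective u (e'.trans hx.2.2.symm)) hcb.symm
    have hdvd := card_dvd_of_free T X hinv fun w hw x hx hwx => by
      by_contra hw1
      rcases honly w hw hw1 x hwx with e' | e' | e'
      · rw [hX, Finset.mem_erase] at hx
        exact hx.1 e'
      · exact (hnb x hx).1 e'
      · exact (hnb x hx).2 e'
    rw [hTcard, hXcard] at hdvd
    norm_num at hdvd
  -- there are two involutions in `S`
  obtain ⟨z, hz⟩ := exists_prime_orderOf_dvd_card' (G := S) 2 (by rw [hScard]; norm_num)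
  have hzo : orderOf (z : G) = 2 := by rw [Subgroup.orderOf_coe, hz]
  obtain ⟨y, hyS, hyo, hyz⟩ : ∃ y ∈ S, orderOf y = 2 ∧ y ≠ (z : G) := by
    by_contra hno
    push Not at hno
    exact CfsgLib.Recog.OrderSix.false_of_one_invol h.nonab P₂ hzo fun y hy hyo => hno y (hP₂ ▸ hy) hyo
  by_cases hS : IsMulCommutative S
  · exfalso
    have hcS : ∀ x ∈ S, ∀ x' ∈ S, x * x' = x' * x := fun x hx x' hx' =>
      congrArg Subtype.val (IsMulCommutative.is_comm.comm (⟨x, hx⟩ : S) ⟨x', hx'⟩)
    have hinT : ∀ x ∈ S, orderOf x = 2 → x ∈ T := fun x hx hxo => by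
      by_contra hxT
      obtain ⟨w, hw, hne⟩ := hout x hx hxo hxT
      exact hne (hcS x hx w (hTS hw))
    let sqh : S →* S :=
      { toFun := fun x => x * x
        map_one' := one_mul 1
        map_mul' := fun x x' => Subtype.ext (by
          simp only [Subgroup.coe_mul]
          rw [mul_assoc (x : G) x' ((x : G) * x'), ← mul_assoc (x' : G) x x', hcS x' x'.2 x x.2]
          simp only [mul_assoc]) }
    have hz1 : (z : G) ≠ 1 := fun e' => by rw [e', orderOf_one] at hzo; omega
    have hy1 : y ≠ 1 := fun e' => by rw [e', orderOf_one] at hyo; omega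
    have hzz : (z : G) * z = 1 := by rw [← _root_.sq, ← hzo, pow_orderOf_eq_one]
    have hyy : y * y = 1 := by rw [← _root_.sq, ← hyo, pow_orderOf_eq_one]
    have hker : 3 ≤ Nat.card sqh.ker := by
      have hsub : ({1, z, ⟨y, hyS⟩} : Finset S) ⊆ Finset.univ.filter (fun x : S => x ∈ sqh.ker) := by
        intro x hx
        simp only [Finset.mem_insert, Finset.mem_singleton] at hx
        rw [Finset.mem_filter]
        refine ⟨Finset.mem_univ x, MonoidHom.mem_ker.2 ?_⟩
        rcases hx with rfl | rfl | rfl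
        · exact map_one _
        · exact Subtype.ext hzz
        · exact Subtype.ext hyy
      have h3 : ({1, z, ⟨y, hyS⟩} : Finset S).card = 3 := by
        rw [Finset.card_insert_of_notMem, Finset.card_pair]
        · exact fun e' => hyz (congrArg Subtype.val e').symm
        · simp only [Finset.mem_insert, Finset.mem_singleton, not_or]
          exact ⟨fun e' => hz1 (congrArg Subtype.val e').symm, fun e' => hy1 (congrArg Subtype.val e').symm⟩
      have := Finset.card_le_card hsub
      rw [h3, ← Fintype.card_subtype, ← Nat.card_eq_fintype_card] at this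
      exact this
    have hrange : Nat.card sqh.range ≤ 2 := by
      have h1 := sqh.ker.card_mul_index
      rw [Subgroup.index_ker, hScard] at h1
      nlinarith
    obtain ⟨x, hx⟩ : ∃ x : S, sqh x ≠ 1 := by
      by_contra hno
      push Not at hno
      have hall : S ≤ T := fun x hx => by
        rcases eq_or_ne x 1 with rfl | hx1
        · exact one_mem T
        · exact hinT x hx (orderOf_eq_prime (by rw [_root_.sq]; exact congrArg Subtype.val (hno ⟨x, hx⟩)) hx1)
      have := Subgroup.card_le_of_le hall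
      omega
    -- the only nontrivial square
    have huniq : ∀ x' : S, sqh x' ≠ 1 → sqh x' = sqh x := by
      intro x' hx'
      by_contra hne
      have hsub : ({1, sqh x, sqh x'} : Finset S) ⊆ Finset.univ.filter (fun w : S => w ∈ sqh.range) := by
        intro w hw
        simp only [Finset.mem_insert, Finset.mem_singleton] at hw
        rw [Finset.mem_filter]
        refine ⟨Finset.mem_univ w, ?_⟩
        rcases hw with rfl | rfl | rfl
        · exact one_mem _
        · exact ⟨x, rfl⟩
        · exact ⟨x', rfl⟩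
      have h3 : ({1, sqh x, sqh x'} : Finset S).card = 3 := by
        rw [Finset.card_insert_of_notMem, Finset.card_pair (Ne.symm hne)]
        simp only [Finset.mem_insert, Finset.mem_singleton, not_or]
        exact ⟨Ne.symm hx, Ne.symm hx'⟩
      have := Finset.card_le_card hsub
      rw [h3, ← Fintype.card_subtype, ← Nat.card_eq_fintype_card] at this
      exact absurd (this.trans hrange) (by norm_num)
    have hs2 : ((sqh x : S) : G) * (sqh x : S) = 1 := by
      by_contra hne
      have := huniq (sqh x) (fun e' => hne (congrArg Subtype.val e'))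
      have h' : sqh x * sqh x = sqh x := this
      exact hx (mul_eq_left.1 h')
    have hso : orderOf ((sqh x : S) : G) = 2 :=
      orderOf_eq_prime (by rw [_root_.sq]; exact hs2) fun e' => hx (Subtype.ext e')
    -- an involution that is not a square
    obtain ⟨v, hvS, hvo, hvne⟩ : ∃ v ∈ S, orderOf v = 2 ∧ v ≠ ((sqh x : S) : G) := by
      rcases em ((z : G) = (sqh x : S)) with e' | e'
      · exact ⟨y, hyS, hyo, fun e'' => hyz (e''.trans e'.symm)⟩
      · exact ⟨z, z.2, hzo, e'⟩
    have hconj : IsConj ((sqh x : S) : G) v := (h.one_class D hso).symm.trans (h.one_class D hvo)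
    obtain ⟨g, hg⟩ := isConj_iff.1 hconj
    have hcen : ∀ w ∈ S, (P₂ : Subgroup G) ≤ Subgroup.centralizer ({w} : Set G) := fun w hw q hq =>
      Subgroup.mem_centralizer_singleton_iff.2 (hcS q (hP₂ ▸ hq) w hw)
    obtain ⟨n, hn, hn'⟩ := CfsgLib.Fusion.exists_normalizer_conj_eq_of_central P₂
      (hcen _ (sqh x).2) g (hg.symm ▸ hcen v hvS)
    rw [hg] at hn'
    have hmem : n * (x : G) * n⁻¹ ∈ S := by
      exact hP₂.le ((Subgroup.mem_normalizer_iff.1 hn _).1 (hP₂.ge x.2))
    have he : ((sqh ⟨_, hmem⟩ : S) : G) = v := by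
      rw [← hn']
      show n * (x : G) * n⁻¹ * (n * (x : G) * n⁻¹) = n * ((x : G) * x) * n⁻¹
      group
    have hv1 : sqh ⟨_, hmem⟩ ≠ 1 := fun e' => by
      rw [e'] at he
      rw [← he, OneMemClass.coe_one, orderOf_one] at hvo
      omega
    exact hvne (by rw [← he, huniq _ hv1])
  · obtain ⟨eS⟩ := CfsgLib.Walter.Consumers.dihedral_of_eight hScard hS
      (s := z) (t := ⟨y, hyS⟩) hz (by rw [← Subgroup.orderOf_coe]; exact hyo)
      (fun e' => hyz (congrArg Subtype.val e').symm)
    have hdih : CfsgLib.GW.DihTwo G :=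
      CfsgLib.GW.dihTwo_of_sylow P₂ (by norm_num) ((MulEquiv.subgroupCongr hP₂).trans eS)
    haveI : Group.IsPerfect G := by
      rw [Group.isPerfect_def]
      refine (IsSimpleGroup.eq_bot_or_eq_top_of_normal (commutator G) inferInstance).resolve_left fun e' => ?_
      refine h.nonab ⟨⟨fun q q' => ?_⟩⟩
      have hm : ⁅q, q'⁆ ∈ commutator G := Subgroup.commutator_mem_commutator (Subgroup.mem_top _) (Subgroup.mem_top _)
      rw [e', Subgroup.mem_bot, commutatorElement_eq_one_iff_mul_comm] at hm
      exact hm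
    have hO := CfsgLib.TwoNilp.oddCore_eq_bot (G := G) h.nonab
    exact CfsgLib.GW.IsPSLTwoOrA7.congr
      ((QuotientGroup.quotientBot (G := G)).symm.trans (QuotientGroup.quotientMulEquivOfEq hO.symm))
      (CfsgLib.GW.gw_perfect G hdih)

end Ctx

end CfsgLib.Perm.ThreeP
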